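import Cfsg.Agent.Lib.Lie.Sz.Out
import Cfsg.Agent.Lib.Lie.Sz.Maximal
import Cfsg.Agent.Lib.Grp.SchurZassenhaus
import Mathlib.FieldTheory.Fixed

/-!
# Automorphisms of order three of a Suzuki group

An automorphism of order three of `Sz(q)` is conjugate to a field automorphism, so it fixes a subgroup
isomorphic to `Sz(q₀)`, `q₀³ = q`.  Hence the fixed group is solvable only for `q = 8`.
-/

set_option autoImplicit false
set_option linter.style.haveILetI false

namespace Cfsg.Agent.Invol.PiTwoClosed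

open Subgroup
open scoped Pointwise

variable {F : Type*} [Field F] [Fintype F] {m : ℕ}

local notation3 "Gp" => ↥(Cfsg.Sz F m)

theorem fieldAut_one (hS : Suz.SzField F m) : Suz.fieldAut hS (1 : F ≃+* F) = 1 :=
  MulEquiv.ext fun g => Subtype.ext (Subtype.ext (Matrix.ext fun _ _ => rfl))

theorem fieldAut_mul (hS : Suz.SzField F m) (σ τ : F ≃+* F) :
    Suz.fieldAut hS (σ * τ) = Suz.fieldAut hS σ * Suz.fieldAut hS τ :=
  MulEquiv.ext fun g => Subtype.ext (Subtype.ext (Matrix.ext fun _ _ => rfl))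

/-- The field automorphisms as a homomorphism. -/
noncomputable def fieldAutHom (hS : Suz.SzField F m) : (F ≃+* F) →* MulAut Gp where
  toFun := Suz.fieldAut hS
  map_one' := fieldAut_one hS
  map_mul' := fieldAut_mul hS

theorem eq_one_of_solvable_fixed (hS : Suz.SzField F m) (h3 : ¬ 3 ∣ Nat.card Gp) (α : MulAut Gp)
    (hα : α ^ 3 = 1) (hα1 : α ≠ 1)
    (hsol : ∀ H : Subgroup Gp, (∀ x ∈ H, α x = x) → Group.IsSolvable ↥H) : m = 1 := by
  haveI : Fact (Nat.Prime 3) := ⟨Nat.prime_three⟩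
  obtain ⟨g, σ, hgσ⟩ := Suz.exists_decomp hS α
  set φ := fieldAutHom hS σ with hφ
  have hgφ : α = MulAut.conj g * φ := hgσ
  -- the class of `α` in `Out` is that of `σ`
  have hσ3 : σ ^ 3 = 1 := by
    refine (Suz.toOut_bijective hS).1 ?_
    have h1 : ∀ τ, Suz.toOut hS τ = QuotientGroup.mk' (Cfsg.Inn Gp) (fieldAutHom hS τ) := fun _ => rfl
    have h2 : QuotientGroup.mk' (Cfsg.Inn Gp) α = QuotientGroup.mk' (Cfsg.Inn Gp) φ := by
      rw [hgφ, map_mul, (QuotientGroup.eq_one_iff _).2 ⟨g, rfl⟩ |> fun h =>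
        (show QuotientGroup.mk' (Cfsg.Inn Gp) (MulAut.conj g) = 1 from h), one_mul]
    rw [h1, h1, map_pow, map_pow, ← hφ, ← h2, ← map_pow, hα, map_one, map_one, map_one]
  have hσ1 : σ ≠ 1 := by
    intro h
    refine hα1 ?_
    rw [hgφ, hφ, h, map_one, mul_one] at hα ⊢
    have hg3 : MulAut.conj (g ^ 3) = 1 := by rw [map_pow]; exact hα
    haveI := Suz.isSimple hS
    have hz : g ^ 3 ∈ center Gp := mem_center_iff.2 fun x => by
      have := DFunLike.congr_fun hg3 x
      simp only [MulAut.conj_apply, MulAut.one_apply, mul_inv_eq_iff_eq_mul] at this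
      exact this.symm
    rcases IsSimpleGroup.eq_bot_or_eq_top_of_normal (center Gp) inferInstance with hb | ht
    · rw [hb, mem_bot] at hz
      rcases (Nat.dvd_prime Nat.prime_three).1 (orderOf_dvd_of_pow_eq_one hz) with h' | h'
      · rw [orderOf_eq_one_iff.1 h', map_one]
      · exact absurd (h' ▸ orderOf_dvd_natCard g) h3
    · refine absurd ?_ (Suz.not_solvable hS)
      exact IsSimpleGroup.comm_iff_isSolvable.1 fun a b =>
        mem_center_iff.1 (ht ▸ mem_top b : b ∈ center Gp) a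
  have hord : orderOf σ = 3 := orderOf_eq_prime hσ3 hσ1
  have hφ3 : φ ^ 3 = 1 := by rw [hφ, ← map_pow, hσ3, map_one]
  have hφ1 : φ ≠ 1 := by
    intro h
    refine hσ1 ((Suz.toOut_bijective hS).1 ?_)
    show (QuotientGroup.mk (fieldAutHom hS σ) : Cfsg.Out Gp) = QuotientGroup.mk (fieldAutHom hS 1)
    rw [← hφ, h, map_one]
  have hφo : orderOf φ = 3 := orderOf_eq_prime hφ3 hφ1
  have hαo : orderOf α = 3 := orderOf_eq_prime hα hα1
  -- `⟨α⟩` and `⟨φ⟩` are conjugate
  have hcN : (Nat.card ↥(Cfsg.Inn Gp)).Coprime (Nat.card ↥(zpowers φ)) := by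
    rw [Nat.card_zpowers, hφo]
    refine ((Nat.prime_three.coprime_iff_not_dvd).2 fun h => h3 (h.trans ?_)).symm
    exact Subgroup.card_range_dvd MulAut.conj
  obtain ⟨n, hn, hnK⟩ := Grp.exists_conj_of_le_sup (N := Cfsg.Inn Gp) (H := zpowers φ) (K := zpowers α)
    (by rw [normalizer_eq_top_iff.2 (Cfsg.innNormal Gp)]; exact le_top)
    (zpowers_le.2 (by rw [hgφ]; exact mul_mem_sup ⟨g, rfl⟩ (mem_zpowers φ)))
    (by rw [Nat.card_zpowers, Nat.card_zpowers, hφo, hαo]) hcN
    (Or.inr inferInstance)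
  have hfix : ∀ x : Gp, φ x = x → α (n x) = n x := by
    intro x hx
    have hmem : α ∈ MulAut.conj n • zpowers φ := hnK ▸ mem_zpowers α
    obtain ⟨ψ, hψ, hψe⟩ := hmem
    have hψx : ψ x = x := by
      have : ∀ ψ ∈ zpowers φ, ψ • x = x := by
        intro ψ hψ
        exact MulAction.mem_stabilizer_iff.1 ((zpowers_le.2 (MulAction.mem_stabilizer_iff.2 hx)) hψ)
      exact this ψ hψ
    rw [← hψe]
    show n (ψ ((n⁻¹ : MulAut Gp) (n x))) = n x
    rw [MulAut.inv_apply_self, hψx]
  -- the fixed subfield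
  by_contra hm
  let K := FixedPoints.subfield ↥(zpowers σ) F
  letI : Fintype K := Fintype.ofFinite _
  haveI : Finite (F ≃+* F) := Finite.of_injective (fun τ => (τ : F → F)) DFunLike.coe_injective
  letI : Fintype ↥(zpowers σ) := Fintype.ofFinite _
  have hfr : Module.finrank K F = 3 := by
    rw [FixedPoints.finrank_eq_card, ← Nat.card_eq_fintype_card, Nat.card_zpowers, hord]
  have hcard : Fintype.card F = Fintype.card K ^ 3 := by
    rw [← hfr]; exact Module.card_eq_pow_finrank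
  rw [hS.card] at hcard
  obtain ⟨j, -, hj⟩ := (Nat.dvd_prime_pow Nat.prime_two).1 (hcard ▸ dvd_pow_self (Fintype.card K) (three_ne_zero))
  rw [hj, ← pow_mul] at hcard
  have hjm : 2 * m + 1 = j * 3 := Nat.pow_right_injective le_rfl hcard
  obtain ⟨k, rfl⟩ : ∃ k, j = 2 * k + 1 := ⟨j / 2, by omega⟩
  have hk : 1 ≤ k := by have := hS.one_le; omega
  have hK : Suz.SzField K k := ⟨hk, hj⟩
  have hd : 2 * k + 1 ∣ 2 * m + 1 := ⟨3, hjm⟩
  set f := Suz.fieldHom hS hK K.subtype (Suz.ι_th (m := m) hK hd K.subtype) with hf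
  have hff : ∀ x, φ (f x) = f x := by
    intro x
    refine Subtype.ext (Subtype.ext (Matrix.ext fun a b => ?_))
    exact ((x : Matrix.SpecialLinearGroup (Fin 4) K).1 a b).2 ⟨σ, mem_zpowers σ⟩
  set R := ((n : MulAut Gp).toMonoidHom.comp f).range with hR
  have hsR : Group.IsSolvable ↥R := hsol R (by rintro _ ⟨x, rfl⟩; exact hfix _ (hff x))
  have hinj : Function.Injective ((n : MulAut Gp).toMonoidHom.comp f) :=
    n.injective.comp (Suz.fieldHom_injective hS hK _ _)
  refine Suz.not_solvable hK ?_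
  exact Group.isSolvable_of_isSolvable_injective (f := (MonoidHom.ofInjective hinj).toMonoidHom)
    (MonoidHom.ofInjective hinj).injective

end Cfsg.Agent.Invol.PiTwoClosed
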