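import Mathlib

/-!
# Sets of primes containing 2: elements, subgroups, two-closed subgroups

The notions used for the proof that a pi-homogeneous group with two-closed pi-subgroups has a
pi'-subgroup formed by all its pi'-elements.
-/

set_option autoImplicit false
set_option linter.unusedSectionVars false
set_option linter.style.haveILetI false

namespace Cfsg.Agent.Invol.PiTwoClosed

open Subgroup

universe u

variable {G : Type u} [Group G] {Q : Type*} [Group Q]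

/-- All prime divisors of the order of `x` lie in `σ`. -/
def IsPiEl (σ : Set ℕ) (x : G) : Prop := ∀ p : ℕ, p.Prime → p ∣ orderOf x → p ∈ σ

/-- All prime divisors of the order of `H` lie in `σ`. -/
def PiGroup (σ : Set ℕ) (H : Subgroup G) : Prop := ∀ p : ℕ, p.Prime → p ∣ Nat.card ↥H → p ∈ σ

/-- A 2-element. -/
def TwoEl (x : G) : Prop := ∃ k : ℕ, orderOf x = 2 ^ k

/-- The 2-elements of `H` are closed under multiplication. -/
def TwoClosed (H : Subgroup G) : Prop := ∀ a ∈ H, ∀ b ∈ H, TwoEl a → TwoEl b → TwoEl (a * b)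

/-- All `π`-subgroups are two-closed. -/
def Closed (π : Set ℕ) (G : Type u) [Group G] : Prop :=
  ∀ H : Subgroup G, PiGroup π H → TwoClosed H

/-- A `π'`-element normalizing a `π`-subgroup centralizes it. -/
def Homog (π : Set ℕ) (G : Type u) [Group G] : Prop :=
  ∀ H : Subgroup G, PiGroup π H → ∀ y : G, IsPiEl πᶜ y → y ∈ normalizer (H : Set G) →
    y ∈ centralizer (H : Set G)

/-- The `π'`-elements form a subgroup. -/
def Split (π : Set ℕ) (G : Type u) [Group G] : Prop :=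
  ∃ K : Subgroup G, ∀ x : G, x ∈ K ↔ IsPiEl πᶜ x

/-! ### Elements -/

variable {σ π : Set ℕ}

theorem isPiEl_of_dvd {x : G} {y : Q} (h : IsPiEl σ x) (hd : orderOf y ∣ orderOf x) : IsPiEl σ y :=
  fun p hp hpy => h p hp (hpy.trans hd)

theorem IsPiEl.one : IsPiEl σ (1 : G) := fun p hp h => by
  rw [orderOf_one, Nat.dvd_one] at h
  exact absurd h hp.ne_one

theorem IsPiEl.pow {x : G} (h : IsPiEl σ x) (n : ℕ) : IsPiEl σ (x ^ n) :=
  isPiEl_of_dvd h (orderOf_pow_dvd n)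

theorem IsPiEl.inv {x : G} (h : IsPiEl σ x) : IsPiEl σ x⁻¹ :=
  isPiEl_of_dvd h (by rw [orderOf_inv])

theorem isPiEl_map_iff {f : G →* Q} (hf : Function.Injective f) {x : G} :
    IsPiEl σ (f x) ↔ IsPiEl σ x := by
  simp only [IsPiEl, orderOf_injective f hf]

theorem IsPiEl.map {x : G} (h : IsPiEl σ x) (f : G →* Q) : IsPiEl σ (f x) :=
  isPiEl_of_dvd h (orderOf_map_dvd f x)

theorem orderOf_conj_eq (g x : G) : orderOf (g * x * g⁻¹) = orderOf x :=
  orderOf_injective (MulAut.conj g).toMonoidHom (MulAut.conj g).injective x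

theorem IsPiEl.conj {x : G} (h : IsPiEl σ x) (g : G) : IsPiEl σ (g * x * g⁻¹) :=
  isPiEl_of_dvd h (by rw [orderOf_conj_eq])

theorem isPiEl_of_mem {H : Subgroup G} (h : PiGroup σ H) {x : G} (hx : x ∈ H) : IsPiEl σ x :=
  fun p hp hd => h p hp (hd.trans (Subgroup.orderOf_dvd_natCard _ hx))

theorem eq_one_of_isPiEl [Finite G] {x : G} (h : IsPiEl π x) (h' : IsPiEl πᶜ x) : x = 1 := by
  by_contra hx
  obtain ⟨p, hp, hd⟩ := Nat.exists_prime_and_dvd (n := orderOf x) fun e => hx (orderOf_eq_one_iff.1 e)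
  exact h' p hp hd (h p hp hd)

theorem odd_of_isPiEl [Finite G] (h2 : 2 ∈ π) {x : G} (h : IsPiEl πᶜ x) : Odd (orderOf x) :=
  Nat.not_even_iff_odd.1 fun he => h 2 Nat.prime_two (even_iff_two_dvd.1 he) h2

/-- A preimage in the cyclic group of `x` with the same prime divisors as the image. -/
theorem exists_lift [Finite G] (f : G →* Q) (x : G) :
    ∃ y ∈ zpowers x, f y = f x ∧ ∀ p : ℕ, p.Prime → p ∣ orderOf y → p ∣ orderOf (f x) := by
  classical
  have hex : ∃ n : ℕ, ∃ y ∈ zpowers x, f y = f x ∧ orderOf y = n := ⟨_, x, mem_zpowers x, rfl, rfl⟩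
  obtain ⟨y, hy, hfy, hn⟩ := Nat.find_spec hex
  refine ⟨y, hy, hfy, fun p hp hpy => ?_⟩
  by_contra hpx
  have hcop : p.Coprime (orderOf (f x)) := hp.coprime_iff_not_dvd.2 hpx
  obtain ⟨j, hj⟩ := exists_pow_eq_self_of_coprime hcop
  have hf : f ((y ^ p) ^ j) = f x := by rw [map_pow, map_pow, hfy, hj]
  have h1 := Nat.find_min' hex ⟨(y ^ p) ^ j, pow_mem (pow_mem hy p) j, hf, rfl⟩
  rw [← hn] at h1
  have h2 : orderOf ((y ^ p) ^ j) ≤ orderOf y / p :=
    (Nat.le_of_dvd (orderOf_pos _) (orderOf_pow_dvd j)).trans (le_of_eq (orderOf_pow_of_dvd hp.pos.ne' hpy))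
  exact absurd (h1.trans h2) (not_le.2 (Nat.div_lt_self (orderOf_pos y) hp.one_lt))

theorem exists_piEl_lift [Finite G] (f : G →* Q) {x : G} (h : IsPiEl σ (f x)) :
    ∃ y ∈ zpowers x, f y = f x ∧ IsPiEl σ y := by
  obtain ⟨y, hy, hfy, hd⟩ := exists_lift f x
  exact ⟨y, hy, hfy, fun p hp hpy => h p hp (hd p hp hpy)⟩

theorem isPiEl_of_image [Finite G] (f : G →* Q) (hk : PiGroup σ f.ker) {x : G} (h : IsPiEl σ (f x)) :
    IsPiEl σ x := by
  intro p hp hd
  have hmem : x ^ orderOf (f x) ∈ f.ker := by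
    rw [MonoidHom.mem_ker, map_pow, pow_orderOf_eq_one]
  by_contra hps
  have hcop : p.Coprime (orderOf (f x)) := hp.coprime_iff_not_dvd.2 fun e => hps (h p hp e)
  have hcop2 : p.Coprime (orderOf (x ^ orderOf (f x))) :=
    hp.coprime_iff_not_dvd.2 fun e => hps (isPiEl_of_mem hk hmem p hp e)
  have h3 : orderOf x ∣ orderOf (f x) * orderOf (x ^ orderOf (f x)) :=
    orderOf_dvd_of_pow_eq_one (by rw [pow_mul, pow_orderOf_eq_one])
  exact (hp.coprime_iff_not_dvd.1 (hcop.mul_right hcop2)) (hd.trans h3)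

/-! ### Subgroups -/

theorem piGroup_bot : PiGroup σ (⊥ : Subgroup G) := fun p hp h => by
  rw [Subgroup.card_bot, Nat.dvd_one] at h
  exact absurd h hp.ne_one

theorem PiGroup.mono [Finite G] {H K : Subgroup G} (h : PiGroup σ K) (hle : H ≤ K) : PiGroup σ H :=
  fun p hp hd => h p hp (hd.trans (Subgroup.card_dvd_of_le hle))

theorem PiGroup.map {H : Subgroup G} (h : PiGroup σ H) (f : G →* Q) : PiGroup σ (H.map f) :=
  fun p hp hd => h p hp (hd.trans (Subgroup.card_map_dvd H f))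

theorem piGroup_map_iff {H : Subgroup G} {f : G →* Q} (hf : Function.Injective f) :
    PiGroup σ (H.map f) ↔ PiGroup σ H := by
  simp only [PiGroup, Subgroup.card_map_of_injective hf]

theorem piGroup_of_forall [Finite G] {H : Subgroup G} (h : ∀ x ∈ H, IsPiEl σ x) : PiGroup σ H := by
  intro p hp hd
  haveI := Fact.mk hp
  obtain ⟨y, hy⟩ := exists_prime_orderOf_dvd_card' (G := ↥H) p hd
  exact h y y.2 p hp (by rw [← hy, Subgroup.orderOf_coe])

theorem PiGroup.coprime {H : Subgroup G} {K : Subgroup Q} (h : PiGroup π H) (h' : PiGroup πᶜ K) :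
    (Nat.card ↥H).Coprime (Nat.card ↥K) :=
  Nat.coprime_of_dvd fun p hp h1 h2 => h' p hp h2 (h p hp h1)

theorem PiGroup.odd [Finite G] (h2 : 2 ∈ π) {K : Subgroup G} (h : PiGroup πᶜ K) : Odd (Nat.card ↥K) :=
  Nat.not_even_iff_odd.1 fun he => h 2 Nat.prime_two (even_iff_two_dvd.1 he) h2

theorem piGroup_zpowers {x : G} (h : IsPiEl σ x) : PiGroup σ (zpowers x) := fun p hp hd =>
  h p hp (by rwa [Nat.card_zpowers] at hd)

theorem piGroup_of_isPGroup [Finite G] {p : ℕ} [hp : Fact p.Prime] (hps : p ∈ σ) {H : Subgroup G}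
    (h : IsPGroup p H) : PiGroup σ H := by
  intro q hq hd
  obtain ⟨k, hk⟩ := IsPGroup.iff_card.1 h
  rw [hk] at hd
  rwa [(Nat.prime_dvd_prime_iff_eq hq hp.out).1 (hq.dvd_of_dvd_pow hd)]

/-- The order of a preimage. -/
theorem card_comap {f : G →* Q} (hf : Function.Surjective f) (L : Subgroup Q) :
    Nat.card ↥(L.comap f) = Nat.card ↥f.ker * Nat.card ↥L := by
  have hle : f.ker ≤ L.comap f := fun x hx => Subgroup.mem_comap.2 (by
    rw [MonoidHom.mem_ker.1 hx]; exact L.one_mem)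
  have h1 := Subgroup.index_ker (f.comp (L.comap f).subtype)
  rw [MonoidHom.range_comp, Subgroup.range_subtype, Subgroup.map_comap_eq_self_of_surjective hf] at h1
  have h2 : (f.comp (L.comap f).subtype).ker = f.ker.subgroupOf (L.comap f) := rfl
  rw [h2] at h1
  rw [← Subgroup.card_mul_index (f.ker.subgroupOf (L.comap f)), h1,
    Nat.card_congr (Subgroup.subgroupOfEquivOfLe hle).toEquiv]

/-! ### Two-elements -/

theorem TwoEl.isPiEl (h2 : 2 ∈ σ) {x : G} (h : TwoEl x) : IsPiEl σ x := by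
  obtain ⟨k, hk⟩ := h
  intro p hp hd
  rw [hk] at hd
  rwa [(Nat.prime_dvd_prime_iff_eq hp Nat.prime_two).1 (hp.dvd_of_dvd_pow hd)]

theorem twoEl_of_dvd {x : G} {y : Q} (h : TwoEl x) (hd : orderOf y ∣ orderOf x) : TwoEl y := by
  obtain ⟨k, hk⟩ := h
  rw [hk] at hd
  obtain ⟨j, -, hj⟩ := (Nat.dvd_prime_pow Nat.prime_two).1 hd
  exact ⟨j, hj⟩

theorem TwoEl.conj {x : G} (h : TwoEl x) (g : G) : TwoEl (g * x * g⁻¹) :=
  twoEl_of_dvd h (by rw [orderOf_conj_eq])

theorem TwoEl.map {x : G} (h : TwoEl x) (f : G →* Q) : TwoEl (f x) :=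
  twoEl_of_dvd h (orderOf_map_dvd f x)

theorem twoEl_map_iff {f : G →* Q} (hf : Function.Injective f) {x : G} : TwoEl (f x) ↔ TwoEl x := by
  simp only [TwoEl, orderOf_injective f hf]

theorem twoEl_of_order_two {t : G} (h : orderOf t = 2) : TwoEl t := ⟨1, by rw [h, pow_one]⟩

theorem twoEl_of_isPGroup {P : Subgroup G} (hP : IsPGroup 2 P) {x : G} (hx : x ∈ P) : TwoEl x := by
  haveI : Fact (Nat.Prime 2) := ⟨Nat.prime_two⟩
  obtain ⟨k, hk⟩ := IsPGroup.iff_orderOf.1 hP ⟨x, hx⟩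
  exact ⟨k, by rw [← Subgroup.orderOf_mk x hx]; exact hk⟩

theorem eq_one_of_twoEl {x : G} (h : TwoEl x) (ho : Odd (orderOf x)) : x = 1 := by
  obtain ⟨k, hk⟩ := h
  rw [hk] at ho
  rcases Nat.eq_zero_or_pos k with rfl | hk0
  · exact orderOf_eq_one_iff.1 (by simpa using hk)
  · exact absurd (Nat.even_pow.2 ⟨even_two, hk0.ne'⟩) (Nat.not_even_iff_odd.2 ho)

theorem inv_eq_of_order_two {t : G} (h : orderOf t = 2) : t⁻¹ = t :=
  inv_eq_of_mul_eq_one_right (by rw [← pow_two, ← h, pow_orderOf_eq_one])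

/-! ### Two-closed subgroups -/

/-- From a normal Sylow 2-subgroup. -/
theorem twoClosed_of_sylow [Finite G] {H : Subgroup G}
    (h : ∀ P : Sylow 2 ↥H, (P : Subgroup ↥H).Normal) : TwoClosed H := by
  haveI : Fact (Nat.Prime 2) := ⟨Nat.prime_two⟩
  obtain ⟨P⟩ : Nonempty (Sylow 2 ↥H) := inferInstance
  haveI := h P
  have hmem : ∀ a : ↥H, TwoEl (a : G) → a ∈ (P : Subgroup ↥H) := by
    intro a ha
    obtain ⟨k, hk⟩ := ha
    obtain ⟨R, hR⟩ := (IsPGroup.of_card (p := 2) (n := k)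
      (show Nat.card ↥(zpowers a) = 2 ^ k by rw [Nat.card_zpowers, ← Subgroup.orderOf_coe, hk])).exists_le_sylow
    obtain ⟨g, hg⟩ := MulAction.exists_smul_eq ↥H P R
    have : g • P = P := Sylow.smul_eq_iff_mem_normalizer.2 (by
      show g ∈ normalizer ((P : Subgroup ↥H) : Set ↥H)
      rw [Subgroup.normalizer_eq_top_iff.2 (h P)]; exact Subgroup.mem_top g)
    rw [this] at hg
    exact hg ▸ hR (mem_zpowers a)
  intro a ha b hb ha2 hb2
  have hab := mul_mem (hmem ⟨a, ha⟩ ha2) (hmem ⟨b, hb⟩ hb2)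
  exact (twoEl_map_iff H.subtype_injective).2 (twoEl_of_isPGroup P.2 hab)

theorem TwoClosed.mono {H K : Subgroup G} (h : TwoClosed K) (hle : H ≤ K) : TwoClosed H :=
  fun a ha b hb => h a (hle ha) b (hle hb)

/-- In a two-closed subgroup no involution inverts a nontrivial element of odd order. -/
theorem TwoClosed.eq_one_of_inverted {H : Subgroup G} (h : TwoClosed H) {t d : G} (ht : t ∈ H)
    (hd : d ∈ H) (ht2 : orderOf t = 2) (hodd : Odd (orderOf d)) (hinv : t * d * t⁻¹ = d⁻¹) : d = 1 := by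
  have h1 : TwoEl (d * t * d⁻¹ * t) :=
    h _ (mul_mem (mul_mem hd ht) (inv_mem hd)) t ht ((twoEl_of_order_two ht2).conj d) (twoEl_of_order_two ht2)
  have h2 : t * d⁻¹ * t⁻¹ = d := by
    have e := congrArg (·⁻¹) hinv
    simp only [mul_inv_rev, inv_inv, ← mul_assoc] at e
    exact e
  rw [show d * t * d⁻¹ * t = d * (t * d⁻¹ * t) by group] at h1
  have h3 : d * (t * d⁻¹ * t) = d ^ 2 := by
    conv_lhs => rw [show t * d⁻¹ * t = t * d⁻¹ * t⁻¹ by rw [inv_eq_of_order_two ht2], h2]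
    rw [pow_two]
  rw [h3] at h1
  have h4 := eq_one_of_twoEl h1 (Odd.of_dvd_nat hodd (orderOf_pow_dvd 2))
  have h5 : orderOf d ∣ 2 := orderOf_dvd_of_pow_eq_one h4
  rcases (Nat.dvd_prime Nat.prime_two).1 h5 with e | e
  · exact orderOf_eq_one_iff.1 e
  · rw [e] at hodd
    exact absurd hodd (by decide)

/-- The subgroup of 2-elements of a two-closed subgroup. -/
def TwoClosed.twoPart [Finite G] {H : Subgroup G} (h : TwoClosed H) : Subgroup G where
  carrier := {x | x ∈ H ∧ TwoEl x}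
  one_mem' := ⟨H.one_mem, 0, by simp⟩
  mul_mem' := fun ⟨ha, ha2⟩ ⟨hb, hb2⟩ => ⟨mul_mem ha hb, h _ ha _ hb ha2 hb2⟩
  inv_mem' := fun {x} ⟨hx, hx2⟩ => ⟨inv_mem hx, twoEl_of_dvd hx2 (by rw [orderOf_inv])⟩

theorem TwoClosed.mem_twoPart [Finite G] {H : Subgroup G} (h : TwoClosed H) {x : G} :
    x ∈ h.twoPart ↔ x ∈ H ∧ TwoEl x := Iff.rfl

theorem TwoClosed.isPGroup_twoPart [Finite G] {H : Subgroup G} (h : TwoClosed H) :
    IsPGroup 2 h.twoPart := by
  haveI : Fact (Nat.Prime 2) := ⟨Nat.prime_two⟩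
  refine IsPGroup.iff_orderOf.2 fun x => ?_
  obtain ⟨k, hk⟩ := x.2.2
  exact ⟨k, by rw [← Subgroup.orderOf_coe, hk]⟩

theorem TwoClosed.twoPart_normal [Finite G] {H : Subgroup G} (h : TwoClosed H) {g x : G} (hg : g ∈ H)
    (hx : x ∈ h.twoPart) : g * x * g⁻¹ ∈ h.twoPart :=
  ⟨mul_mem (mul_mem hg hx.1) (inv_mem hg), hx.2.conj g⟩

end Cfsg.Agent.Invol.PiTwoClosed
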