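import Cfsg.Agent.Lib.Invol.PiTwoClosed.OddPi
import Cfsg.Agent.Lib.Invol.PiTwoClosed.SzFixed
import Cfsg.Agent.Lib.Lie.Sz.LieEquiv
import Cfsg.Agent.Lib.Grp.ComponentBalance
import Cfsg.Agent.Lib.Grp.Subnormal
import Cfsg.Agent.S2112

/-!
# A component of order prime to three against a solvable centralizer of order three

Given that the non-abelian simple groups of order prime to 3 are Suzuki groups: if `K` is a component of
order prime to `3` and `y` of order three has a solvable centralizer, then `y` normalizes `K` and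
`K/Z(K) ≅ Sz(8)`.
-/

set_option autoImplicit false
set_option linter.unusedSectionVars false
set_option linter.style.haveILetI false

namespace Cfsg.Agent.Invol.PiTwoClosed

open Subgroup
open scoped Pointwise

universe u

variable {G : Type u} [Group G] [Finite G]

theorem not_comm_of_quasisimple {K : Type u} [Group K] (hK : Cfsg.IsQuasisimple K) :
    ¬ ∀ a b : K, a * b = b * a := by
  intro h
  haveI := hK.2
  obtain ⟨q, hq⟩ := exists_ne (1 : K ⧸ center K)
  obtain ⟨k, rfl⟩ := QuotientGroup.mk_surjective q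
  exact hq ((QuotientGroup.eq_one_iff k).2 (mem_center_iff.2 fun g => (h k g).symm))

theorem hom_trivial_of_perfect {K H : Type*} [Group K] [Group H] (hP : Group.IsPerfect K)
    (hH : Group.IsSolvable H) (f : K →* H) (k : K) : f k = 1 := by
  haveI := hH
  have h1 : ∀ n, derivedSeries K n = ⊤ := by
    intro n
    induction n with
    | zero => rfl
    | succ n ih => rw [derivedSeries_succ, ih]; exact hP.commutator_eq_top
  obtain ⟨n, hn⟩ := hH
  have := map_derivedSeries_le_derivedSeries f n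
  rw [h1, hn] at this
  exact mem_bot.1 (this (mem_map_of_mem f (mem_top k)))

theorem mem_normalizer_of_component {K : Subgroup G} (hK : Cfsg.IsComponent K) {y : G} (hy : y ^ 3 = 1)
    (hsol : Group.IsSolvable ↥(centralizer ({y} : Set G))) : y ∈ normalizer (K : Set G) := by
  by_contra hn
  have hn2 : y ^ 2 ∉ normalizer (K : Set G) := fun h => hn (by
    rw [show y = (y ^ 2)⁻¹ from eq_inv_of_mul_eq_one_left (by rw [← pow_succ', hy])]; exact inv_mem h)
  -- the three conjugates commute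
  have c01 : ∀ a ∈ K, ∀ b ∈ K, Commute a (y * b * y⁻¹) := fun a ha b hb => by
    simpa using Grp.component_conj_commute hK (g := y) (h := 1) (by simpa using hn) ha hb
  have c02 : ∀ a ∈ K, ∀ b ∈ K, Commute a (y ^ 2 * b * (y ^ 2)⁻¹) := fun a ha b hb => by
    simpa using Grp.component_conj_commute hK (g := y ^ 2) (h := 1) (by simpa using hn2) ha hb
  have c12 : ∀ a ∈ K, ∀ b ∈ K, Commute (y * a * y⁻¹) (y ^ 2 * b * (y ^ 2)⁻¹) := fun a ha b hb =>
    Grp.component_conj_commute hK (g := y ^ 2) (h := y)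
      (by rw [pow_two, inv_mul_cancel_left]; exact hn) ha hb
  let d : ↥K →* G := MonoidHom.mk' (fun k => (k : G) * (y * k * y⁻¹) * (y ^ 2 * k * (y ^ 2)⁻¹)) fun a b => by
    have e1 : y * ((a * b : ↥K) : G) * y⁻¹ = (y * (a : G) * y⁻¹) * (y * (b : G) * y⁻¹) := by
      rw [Subgroup.coe_mul]; group
    have e2 : y ^ 2 * ((a * b : ↥K) : G) * (y ^ 2)⁻¹ =
        (y ^ 2 * (a : G) * (y ^ 2)⁻¹) * (y ^ 2 * (b : G) * (y ^ 2)⁻¹) := by
      rw [Subgroup.coe_mul]; group
    show ((a * b : ↥K) : G) * _ * _ = _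
    rw [e1, e2, Subgroup.coe_mul]
    set a1 := y * (a : G) * y⁻¹ with ha1
    set a2 := y ^ 2 * (a : G) * (y ^ 2)⁻¹ with ha2
    set b1 := y * (b : G) * y⁻¹ with hb1
    set b2 := y ^ 2 * (b : G) * (y ^ 2)⁻¹ with hb2
    have h1 : Commute (b : G) a1 := c01 _ b.2 _ a.2
    have h2 : Commute (b : G) a2 := c02 _ b.2 _ a.2
    have h3 : Commute b1 a2 := c12 _ b.2 _ a.2
    calc (a : G) * b * (a1 * b1) * (a2 * b2) = a * ((b : G) * a1) * (b1 * a2) * b2 := by group
      _ = a * (a1 * b) * (a2 * b1) * b2 := by rw [h1.eq, h3.eq]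
      _ = a * a1 * ((b : G) * a2) * b1 * b2 := by group
      _ = a * a1 * (a2 * b) * b1 * b2 := by rw [h2.eq]
      _ = a * a1 * a2 * (b * b1 * b2) := by group
  have hd : ∀ k, d k ∈ centralizer ({y} : Set G) := by
    intro k
    refine mem_centralizer_singleton_iff.2 ?_
    show (k : G) * (y * k * y⁻¹) * (y ^ 2 * k * (y ^ 2)⁻¹) * y = y * ((k : G) * (y * k * y⁻¹) * (y ^ 2 * k * (y ^ 2)⁻¹))
    have h01 := c01 _ k.2 _ k.2
    have h02 := c02 _ k.2 _ k.2
    have e3 : y * (y ^ 2 * (k : G) * (y ^ 2)⁻¹) * y⁻¹ = k := by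
      rw [show y * (y ^ 2 * (k : G) * (y ^ 2)⁻¹) * y⁻¹ = y ^ 3 * k * (y ^ 3)⁻¹ by group, hy, one_mul, inv_one, mul_one]
    have e4 : y * ((k : G) * (y * k * y⁻¹) * (y ^ 2 * k * (y ^ 2)⁻¹)) =
        (y * k * y⁻¹) * (y ^ 2 * k * (y ^ 2)⁻¹) * (y * (y ^ 2 * (k : G) * (y ^ 2)⁻¹) * y⁻¹) * y := by group
    rw [e4, e3, ← (h01.mul_right h02).eq, mul_assoc (k : G)]
  have hd1 : ∀ k, d k = 1 := fun k => congrArg Subtype.val
    (hom_trivial_of_perfect hK.2.1 hsol (d.codRestrict _ hd) k)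
  refine not_comm_of_quasisimple hK.2 fun a b => Subtype.ext ?_
  have h : (a : G) = ((y * (a : G) * y⁻¹) * (y ^ 2 * (a : G) * (y ^ 2)⁻¹))⁻¹ :=
    eq_inv_of_mul_eq_one_left (by rw [← mul_assoc]; exact hd1 a)
  show (a : G) * b = b * a
  rw [h]
  exact (((c01 _ b.2 _ a.2).mul_right (c02 _ b.2 _ a.2)).inv_right).symm.eq

/-- Conjugation by a normalizing element. -/
noncomputable def conjOn (K : Subgroup G) {y : G} (hy : y ∈ normalizer (K : Set G)) : MulAut ↥K where
  toFun k := ⟨y * k * y⁻¹, (mem_normalizer_iff.1 hy k).1 k.2⟩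
  invFun k := ⟨y⁻¹ * k * y, by simpa using (mem_normalizer_iff.1 (inv_mem hy) k).1 k.2⟩
  left_inv k := Subtype.ext (show y⁻¹ * (y * (k : G) * y⁻¹) * y = k by group)
  right_inv k := Subtype.ext (show y * (y⁻¹ * (k : G) * y) * y⁻¹ = k by group)
  map_mul' a b := Subtype.ext (show y * ((a : G) * b) * y⁻¹ = y * a * y⁻¹ * (y * b * y⁻¹) by group)

/-- An automorphism of order three moves a coset of a central subgroup of order prime to three to a fixed one. -/
theorem exists_fixed_lift {K : Type u} [Group K] [Finite K] (β : MulAut K) (hβ : ∀ k, β (β (β k)) = k)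
    (h3 : ¬ 3 ∣ Nat.card ↥(center K)) {k : K} (hk : k⁻¹ * β k ∈ center K) :
    ∃ w ∈ center K, β (k * w) = k * w := by
  have hβZ : ∀ z ∈ center K, β z ∈ center K := fun z hz => mem_center_iff.2 fun g => by
    rw [← β.apply_symm_apply g, ← map_mul, ← map_mul, mem_center_iff.1 hz]
  set z := k⁻¹ * β k with hz
  have hbk : β k = k * z := by rw [hz, mul_inv_cancel_left]
  have hprod : z * (β z * β (β z)) = 1 := by
    have h := hβ k
    rw [hbk, map_mul, map_mul, hbk, map_mul, hbk] at h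
    refine mul_left_cancel (a := k) ?_
    rw [mul_one]
    conv_rhs => rw [← h]
    simp only [map_mul, mul_assoc]
  letI : CommGroup ↥(center K) :=
    { (inferInstance : Group ↥(center K)) with
      mul_comm := fun u v => Subtype.ext (mem_center_iff.1 v.2 u) }
  let b : ↥(center K) →* ↥(center K) :=
    ((β.toMonoidHom.comp (center K).subtype).codRestrict (center K) fun v => hβZ v v.2)
  have hpow : ∀ u : ↥(center K), u ^ 3 = 1 → u = 1 := fun u hu => by
    rcases (Nat.dvd_prime Nat.prime_three).1 (orderOf_dvd_of_pow_eq_one hu) with h | h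
    · exact orderOf_eq_one_iff.1 h
    · exact absurd (h ▸ orderOf_dvd_natCard u) h3
  obtain ⟨v, hv⟩ := (powCoprime (G := ↥(center K)) (n := 3)
    ((Nat.prime_three.coprime_iff_not_dvd).2 h3).symm).surjective ⟨z, hk⟩
  replace hv : v ^ 3 = ⟨z, hk⟩ := hv
  have h1 : v * (b v * b (b v)) = 1 := hpow _ (by
    rw [mul_pow, mul_pow, ← map_pow, ← map_pow, ← map_pow, hv]
    exact Subtype.ext hprod)
  have h2 : b (v ^ 2 * b v) * v ^ 3 = v ^ 2 * b v := by
    rw [map_mul, map_pow]
    calc b v ^ 2 * b (b v) * v ^ 3 = v ^ 2 * b v * (v * (b v * b (b v))) := by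
          simp only [pow_succ, pow_zero, one_mul]; ac_rfl
      _ = v ^ 2 * b v := by rw [h1, mul_one]
  refine ⟨((v ^ 2 * b v : ↥(center K)) : K), (v ^ 2 * b v).2, ?_⟩
  have h4 : β ((v ^ 2 * b v : ↥(center K)) : K) * z = ((v ^ 2 * b v : ↥(center K)) : K) := by
    have := congrArg Subtype.val h2
    rwa [hv] at this
  rw [map_mul, hbk, mul_assoc, show z * β ((v ^ 2 * b v : ↥(center K)) : K) = β ((v ^ 2 * b v : ↥(center K)) : K) * z
    from (mem_center_iff.1 hk _).symm, h4]

variable {K : Subgroup G}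

/-- The quotient of the component has trivial fixed points only if it is `Sz(8)`. -/
theorem quot_sz_eight (hT : ThreePrimeSuzuki.{u}) (hK : Cfsg.IsComponent K) (h3 : ¬ 3 ∣ Nat.card ↥K) {y : G}
    (hy : y ^ 3 = 1) (hyn : y ∈ normalizer (K : Set G))
    (hsol : Group.IsSolvable ↥(centralizer ({y} : Set G))) :
    ∃ (F : Type) (_ : Field F) (_ : Fintype F), Fintype.card F = 8 ∧
      Nonempty (↥K ⧸ center ↥K ≃* ↥(Cfsg.Lie.Sz F 4)) := by
  haveI := hK.2.2
  set Z := center ↥K with hZ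
  set β := conjOn K hyn with hβ
  have hβ3 : ∀ k, β (β (β k)) = k := fun k => Subtype.ext (by
    show y * (y * (y * (k : G) * y⁻¹) * y⁻¹) * y⁻¹ = k
    rw [show y * (y * (y * (k : G) * y⁻¹) * y⁻¹) * y⁻¹ = y ^ 3 * k * (y ^ 3)⁻¹ by
      simp only [pow_succ, pow_zero, one_mul, mul_inv_rev, mul_assoc], hy, one_mul, inv_one, mul_one])
  have hfixsol : ∀ H : Subgroup ↥K, (∀ k ∈ H, β k = k) → Group.IsSolvable ↥H := fun H hH => by
    haveI := hsol
    have hle : ∀ k : ↥H, ((k : ↥K) : G) ∈ centralizer ({y} : Set G) := fun k => by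
      refine mem_centralizer_singleton_iff.2 ?_
      exact (mul_inv_eq_iff_eq_mul.1 (congrArg Subtype.val (hH k k.2))).symm
    exact Group.isSolvable_of_isSolvable_injective (f := (K.subtype.comp H.subtype).codRestrict _ hle)
      fun a b h => Subtype.ext (Subtype.ext (congrArg (fun t : ↥(centralizer ({y} : Set G)) => (t : G)) h))
  have hQc : ¬ IsMulCommutative (↥K ⧸ Z) := by
    intro h
    obtain ⟨q, hq⟩ := exists_ne (1 : ↥K ⧸ Z)
    obtain ⟨k, rfl⟩ := QuotientGroup.mk_surjective q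
    refine hq (hom_trivial_of_perfect hK.2.1 ?_ (QuotientGroup.mk' Z) k)
    exact IsSimpleGroup.comm_iff_isSolvable.1 fun a b => h.is_comm.comm a b
  have hQ3 : ¬ 3 ∣ Nat.card (↥K ⧸ Z) := fun h => h3 (h.trans (card_quotient_dvd_card Z))
  obtain ⟨F, _, _, m, hm, hF, ⟨e⟩⟩ := hT (↥K ⧸ Z) hQc hQ3
  have hS : Suz.SzField F m := ⟨hm, hF⟩
  let e' : ↥K ⧸ Z ≃* ↥(Cfsg.Sz F m) := e.trans (Suz.szEquiv hS).symm
  let α₀ : MulAut (↥K ⧸ Z) := QuotientGroup.congr Z Z β (Subgroup.characteristic_iff_map_eq.1 inferInstance β)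
  let α : MulAut ↥(Cfsg.Sz F m) := MulAut.congr e' α₀
  have hα₀ : ∀ k : ↥K, α₀ (QuotientGroup.mk k) = QuotientGroup.mk (β k) := fun _ => rfl
  have hα : ∀ k : ↥K, α (e' (QuotientGroup.mk k)) = e' (QuotientGroup.mk (β k)) := fun k => by
    show e' (α₀ (e'.symm (e' (QuotientGroup.mk k)))) = _
    rw [e'.symm_apply_apply, hα₀]
  have hα3 : α ^ 3 = 1 := MulEquiv.ext fun x => by
    obtain ⟨q, rfl⟩ := e'.surjective x
    obtain ⟨k, rfl⟩ := QuotientGroup.mk_surjective q
    show α (α (α (e' _))) = _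
    rw [hα, hα, hα, hβ3]
    rfl
  have hα1 : α ≠ 1 := by
    intro h
    have hin : ∀ k : ↥K, k⁻¹ * β k ∈ Z := fun k => by
      have := hα k
      rw [h] at this
      exact QuotientGroup.eq.1 (e'.injective this)
    have hall : ∀ k : ↥K, β k = k := by
      let f : ↥K →* ↥Z := MonoidHom.mk' (fun k => ⟨k⁻¹ * β k, hin k⟩) fun a b => Subtype.ext (by
        show (a * b)⁻¹ * β (a * b) = a⁻¹ * β a * (b⁻¹ * β b)
        rw [map_mul, mul_inv_rev, show b⁻¹ * a⁻¹ * (β a * β b) = b⁻¹ * (a⁻¹ * β a) * β b by group,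
          mem_center_iff.1 (hin a) b⁻¹, mul_assoc])
      intro k
      have := congrArg Subtype.val (hom_trivial_of_perfect hK.2.1
        (Group.isSolvable_of_comm fun u v => Subtype.ext (mem_center_iff.1 v.2 (u : ↥K))) f k)
      exact (inv_mul_eq_one.1 this).symm
    haveI := hfixsol ⊤ fun k _ => hall k
    exact not_comm_of_quasisimple hK.2 fun a b => by
      have h1 := hom_trivial_of_perfect hK.2.1 ‹_› (topEquiv.symm.toMonoidHom : ↥K →* ↥(⊤ : Subgroup ↥K))
      rw [show a = 1 from congrArg Subtype.val (h1 a), one_mul, mul_one]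
  have hm1 : m = 1 := eq_one_of_solvable_fixed hS
    (by rw [← Nat.card_congr e'.toEquiv]; exact hQ3) α hα3 hα1 fun H hH => by
      let H' : Subgroup ↥K := (H.comap (e'.toMonoidHom.comp (QuotientGroup.mk' Z))) ⊓
        { carrier := {k | β k = k}
          mul_mem' := fun {a b} (ha : β a = a) (hb : β b = b) => by show β (a * b) = a * b; rw [map_mul, ha, hb]
          one_mem' := map_one β
          inv_mem' := fun {a} (ha : β a = a) => by show β a⁻¹ = a⁻¹; rw [map_inv, ha] }
      haveI := hfixsol H' fun k hk => hk.2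
      refine Group.isSolvable_of_surjective
        (f := ((e'.toMonoidHom.comp (QuotientGroup.mk' Z)).comp H'.subtype).codRestrict H fun k => k.2.1) ?_
      rintro ⟨x, hx⟩
      obtain ⟨q, rfl⟩ := e'.surjective x
      obtain ⟨k, rfl⟩ := QuotientGroup.mk_surjective q
      have hk : k⁻¹ * β k ∈ center ↥K := by
        have := hH _ hx
        rw [hα] at this
        exact QuotientGroup.eq.1 (e'.injective this).symm
      obtain ⟨w, hw, hfix⟩ := exists_fixed_lift β hβ3
        (fun h => h3 (h.trans (card_subgroup_dvd_card _))) hk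
      have hmk : QuotientGroup.mk' Z (k * w) = QuotientGroup.mk k := by
        rw [map_mul, (QuotientGroup.eq_one_iff w).2 hw |> fun h => (show QuotientGroup.mk' Z w = 1 from h), mul_one]
        rfl
      exact ⟨⟨k * w, ⟨by show e' (QuotientGroup.mk' Z (k * w)) ∈ H; rw [hmk]; exact hx, hfix⟩⟩,
        Subtype.ext (congrArg e' hmk)⟩
  subst hm1
  exact ⟨F, _, _, hF, ⟨e⟩⟩

theorem center_isPGroup {X : Type u} [Group X] [Finite X] (hX : Group.IsPerfect X)
    {F : Type} [Field F] [Fintype F] (hF : Fintype.card F = 8)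
    (e : X ⧸ center X ≃* ↥(Cfsg.Lie.Sz F 4)) : IsPGroup 2 ↥(center X) := by
  let s : Shrink.{0} X ≃* X := Shrink.mulEquiv
  let σ : Shrink.{0} X →* ↥(Cfsg.Lie.Sz F 4) :=
    e.toMonoidHom.comp ((QuotientGroup.mk' (center X)).comp s.toMonoidHom)
  have hker : ∀ x, x ∈ σ.ker ↔ s x ∈ center X := fun x => by
    rw [MonoidHom.mem_ker, ← QuotientGroup.eq_one_iff (s x)]
    exact ⟨fun h => e.injective (h.trans (map_one e).symm), fun h => (congrArg e h).trans (map_one e)⟩
  have hσ : Cfsg.IsStemExtension σ := by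
    refine ⟨e.surjective.comp ((QuotientGroup.mk'_surjective _).comp s.surjective), fun x hx => ?_, fun x _ => ?_⟩
    · refine mem_center_iff.2 fun g => s.injective ?_
      rw [map_mul, map_mul]
      exact mem_center_iff.1 ((hker x).1 hx) (s g)
    · have hP : Group.IsPerfect (Shrink.{0} X) := Group.IsPerfect.ofSurjective (f := s.symm.toMonoidHom) s.symm.surjective
      rw [hP.commutator_eq_top]
      exact mem_top x
  obtain ⟨π, hπ⟩ := (Cfsg.Agent.S2112.result hF).2 (Shrink.{0} X) σ hσ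
  have h4 : IsPGroup 2 ↥σ.ker := (IsPGroup.of_card (n := 2) (by simp)).of_surjective π hπ
  refine h4.of_surjective
    ((s.toMonoidHom.comp σ.ker.subtype).codRestrict (center X) fun x => (hker x).1 x.2) ?_
  rintro ⟨x, hx⟩
  exact ⟨⟨s.symm x, (hker _).2 (by rwa [s.apply_symm_apply])⟩, Subtype.ext (s.apply_symm_apply x)⟩

/-- The statement about components of order prime to three. -/
theorem component_threePrime (hT : ThreePrimeSuzuki.{u}) (hK : Cfsg.IsComponent K) (h3 : ¬ 3 ∣ Nat.card ↥K)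
    {y : G} (hy : orderOf y = 3) (hsol : Group.IsSolvable ↥(centralizer ({y} : Set G))) :
    (∃ (F : Type) (_ : Field F) (_ : Fintype F), Fintype.card F = 8 ∧
        Nonempty (↥K ⧸ center ↥K ≃* ↥(Cfsg.Lie.Sz F 4))) ∧
      y ∈ normalizer (K : Set G) ∧ (Cfsg.pCore 2 G = ⊥ → IsSimpleGroup ↥K) := by
  have hy3 : y ^ 3 = 1 := hy ▸ pow_orderOf_eq_one y
  have hyn := mem_normalizer_of_component hK hy3 hsol
  obtain ⟨F, _, _, hF, ⟨e⟩⟩ := quot_sz_eight hT hK h3 hy3 hyn hsol
  refine ⟨⟨F, _, _, hF, ⟨e⟩⟩, hyn, fun hO => ?_⟩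
  haveI := hK.2.2
  have hp := (center_isPGroup hK.2.1 hF e).map K.subtype
  have hbot : (center ↥K).map K.subtype = ⊥ := le_bot_iff.1 (hO ▸
    Grp.le_pCore_of_isSubnormal ((Normal.isSubnormal (inferInstance : (center ↥K).Normal)).trans' hK.1) hp)
  have hc : center ↥K = ⊥ := (map_eq_bot_iff_of_injective _ K.subtype_injective).1 hbot
  haveI : IsSimpleGroup (↥K ⧸ center ↥K) := hK.2.2
  let q : ↥K ≃* ↥K ⧸ center ↥K := MulEquiv.ofBijective (QuotientGroup.mk' _)
    ⟨(MonoidHom.ker_eq_bot_iff _).1 ((QuotientGroup.ker_mk' _).trans hc), QuotientGroup.mk'_surjective _⟩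
  haveI : Nontrivial ↥K := q.toEquiv.nontrivial
  exact IsSimpleGroup.isSimpleGroup_of_surjective q.symm.toMonoidHom q.symm.surjective

end Cfsg.Agent.Invol.PiTwoClosed
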