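import Cfsg.Agent.Lib.Invol.PiTwoClosed.Small

/-!
# The equivalence, given the case of a Sylow 2-subgroup of `PSU(3, 4)` type
-/

set_option autoImplicit false
set_option linter.unusedSectionVars false
set_option linter.style.haveILetI false

namespace Cfsg.Agent.Invol.PiTwoClosed

open Subgroup

universe u

theorem equivalence {G : Type u} [Group G] [Finite G] (π : Set ℕ) (h2 : 2 ∈ π) (hcase : ShapeCase.{u} π)
    (hcl : ∀ H : Subgroup G, (∀ p : ℕ, p.Prime → p ∣ Nat.card ↥H → p ∈ π) →
      ∀ P : Sylow 2 ↥H, (P : Subgroup ↥H).Normal) :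
    (∃ K : Subgroup G, ∀ x : G, x ∈ K ↔ ∀ p : ℕ, p.Prime → p ∣ orderOf x → p ∉ π) ↔
      (∀ H : Subgroup G, H ≠ ⊥ → (∀ p : ℕ, p.Prime → p ∣ Nat.card ↥H → p ∈ π) →
        ∀ p : ℕ, p.Prime →
          p ∣ (Subgroup.centralizer (H : Set G)).relIndex (Subgroup.normalizer (H : Set G)) → p ∈ π) := by
  have hc : Closed π G := fun H hH => twoClosed_of_sylow (hcl H hH)
  constructor
  · rintro ⟨K, hK⟩
    have hh : Homog π G := by
      intro H hH y hy hyn
      refine mem_centralizer_iff.2 fun h hhH => ?_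
      have hKy : y ∈ K := (hK y).2 hy
      have hconj : h * y * h⁻¹ ∈ K := (hK _).2 (hy.conj h)
      have h1 : h * y * h⁻¹ * y⁻¹ ∈ K := mul_mem hconj (inv_mem hKy)
      have h2' : h * y * h⁻¹ * y⁻¹ ∈ H := by
        rw [show h * y * h⁻¹ * y⁻¹ = h * (y * h⁻¹ * y⁻¹) by group]
        exact mul_mem hhH ((mem_normalizer_iff.1 hyn h⁻¹).1 (inv_mem hhH))
      have h3 := eq_one_of_isPiEl (isPiEl_of_mem hH h2') ((hK _).1 h1)
      rwa [mul_inv_eq_one, mul_inv_eq_iff_eq_mul] at h3
    intro H _ hH p hp hd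
    by_contra hps
    haveI := Fact.mk hp
    obtain ⟨P⟩ : Nonempty (Sylow p ↥(normalizer (H : Set G))) := inferInstance
    have hle : (P : Subgroup ↥(normalizer (H : Set G))) ≤
        (centralizer (H : Set G)).subgroupOf (normalizer (H : Set G)) := fun y hy =>
      mem_subgroupOf.2 (hh H hH y
        ((isPiEl_of_mem (piGroup_of_isPGroup (σ := πᶜ) hps P.2) hy).map (Subgroup.subtype _)) y.2)
    exact P.not_dvd_index (dvd_trans hd (Subgroup.index_dvd_of_le hle))
  · intro hrel
    refine split_of_simpleCase h2 (simpleCase_of_shapeCase h2 hcase) hc fun H hH y hy hyn => ?_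
    rcases eq_or_ne H ⊥ with rfl | hne
    · exact mem_centralizer_iff.2 fun h hh => by
        rw [SetLike.mem_coe, mem_bot] at hh
        rw [hh, one_mul, mul_one]
    set N := normalizer (H : Set G) with hN
    haveI hn : ((centralizer (H : Set G)).subgroupOf N).Normal := by
      rw [hN, ← normalizerMonoidHom_ker]
      infer_instance
    have hpow := Subgroup.pow_index_mem ((centralizer (H : Set G)).subgroupOf N) (⟨y, hyn⟩ : ↥N)
    have hcop : Nat.Coprime (orderOf y)
        ((centralizer (H : Set G)).subgroupOf N).index := Nat.coprime_of_dvd fun p hp h1 h2' =>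
      hy p hp h1 (hrel H hne hH p hp h2')
    obtain ⟨j, hj⟩ := exists_pow_eq_self_of_coprime hcop.symm
    rw [← hj]
    exact pow_mem (mem_subgroupOf.1 hpow) j

end Cfsg.Agent.Invol.PiTwoClosed
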