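import Cfsg.Agent.Lib.Invol.PiTwoClosed.Min
import Cfsg.Agent.Lib.Invol.GW.Klein.LinearPSL
import Cfsg.Agent.S0483

/-!
# A minimal counterexample does not have Klein four Sylow 2-subgroups
-/

set_option autoImplicit false
set_option linter.unusedSectionVars false
set_option linter.style.haveILetI false

namespace Cfsg.Agent.Invol.PiTwoClosed

open Subgroup Matrix

universe u

variable {G : Type u} [Group G] [Finite G] {π : Set ℕ}

/-- A prime dividing the automizer of a `π`-subgroup lies in `π`. -/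
theorem mem_pi_of_dvd_relIndex (hh : Homog π G) {H : Subgroup G} (hH : PiGroup π H) {p : ℕ} (hp : p.Prime)
    (hd : p ∣ (centralizer (H : Set G)).relIndex (normalizer (H : Set G))) : p ∈ π := by
  by_contra hps
  haveI := Fact.mk hp
  obtain ⟨P⟩ : Nonempty (Sylow p ↥(normalizer (H : Set G))) := inferInstance
  have hle : (P : Subgroup ↥(normalizer (H : Set G))) ≤
      (centralizer (H : Set G)).subgroupOf (normalizer (H : Set G)) := fun y hy => by
    have hpi : IsPiEl πᶜ y := isPiEl_of_mem (piGroup_of_isPGroup (σ := πᶜ) hps P.2) hy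
    exact mem_subgroupOf.2 (hh H hH y (hpi.map (Subgroup.subtype _)) y.2)
  exact P.not_dvd_index (dvd_trans hd (Subgroup.index_dvd_of_le hle))

namespace Min

variable (M : Min π G)
include M

/-- No involution inverts a `π`-element of odd order different from one. -/
theorem eq_one_of_real {t x : G} (ht : orderOf t = 2) (hx : IsPiEl π x) (hodd : Odd (orderOf x))
    (hinv : t * x * t⁻¹ = x⁻¹) : x = 1 := by
  have hnorm : zpowers t ≤ normalizer ((zpowers x : Subgroup G) : Set G) := zpowers_le.2 (by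
    refine Grp.mem_normalizer_iff_smul.2 ?_
    rw [← Grp.map_conj_eq_smul, MonoidHom.map_zpowers]
    show zpowers (t * x * t⁻¹) = zpowers x
    rw [hinv, zpowers_inv])
  refine (M.closed (zpowers t ⊔ zpowers x) fun p hp hpd => ?_).eq_one_of_inverted
    (mem_sup_left (mem_zpowers t)) (mem_sup_right (mem_zpowers x)) ht hodd hinv
  rcases hp.dvd_mul.1 (hpd.trans (Grp.card_sup_dvd_mul hnorm)) with h | h
  · rw [Nat.card_zpowers, ht] at h
    exact ((Nat.prime_dvd_prime_iff_eq hp Nat.prime_two).1 h) ▸ M.two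
  · exact piGroup_zpowers hx p hp h

variable [IsSimpleGroup G]

/-- Three divides the automizer of a Klein four Sylow 2-subgroup. -/
theorem three_mem (S : Sylow 2 G) (h4 : Nat.card ↥(S : Subgroup G) = 4) : 3 ∈ π := by
  haveI : Fact (Nat.Prime 2) := ⟨Nat.prime_two⟩
  haveI : IsMulCommutative ↥(S : Subgroup G) := IsPGroup.isMulCommutative_of_card_eq_prime_sq
    (p := 2) (by rw [h4]; norm_num)
  set N := normalizer ((S : Subgroup G) : Set G) with hN
  set C := centralizer ((S : Subgroup G) : Set G)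
  have hSC : (S : Subgroup G) ≤ C := le_centralizer _
  have hne : C.relIndex N ≠ 1 := fun h => by
    obtain ⟨z, hz, hz2, -⟩ := CoreConsumers.exists_central_involution S.2 (M.sylow_ne_bot S)
    obtain ⟨n, hn, hne⟩ := M.exists_mover S hz hz2
    exact hne (by rw [← mem_centralizer_iff.1 (relIndex_eq_one.1 h hn) z hz, mul_inv_cancel_right])
  obtain ⟨p, hp, hpd⟩ := Nat.exists_prime_and_dvd hne
  haveI := Fact.mk hp
  have hp2 : p ≠ 2 := by
    rintro rfl
    refine S.not_dvd_index ((hpd.trans ?_).trans (index_dvd_of_le hSC))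
    exact ⟨N.index, (Subgroup.relIndex_mul_index (centralizer_le_normalizer _)).symm⟩
  let φ : ↥N →* Equiv.Perm ↥(S : Subgroup G) :=
    (MulAction.toPermHom (MulAut ↥(S : Subgroup G)) ↥(S : Subgroup G)).comp
      (normalizerMonoidHom (S : Subgroup G))
  have hker : φ.ker = C.subgroupOf N := by
    rw [← normalizerMonoidHom_ker]
    ext x
    simp only [φ, MonoidHom.mem_ker, MonoidHom.comp_apply]
    exact ⟨fun h => MulEquiv.ext fun y => Equiv.Perm.ext_iff.1 h y, fun h => by rw [h, map_one]⟩
  have hdvd : p ∣ Nat.card (Equiv.Perm ↥(S : Subgroup G)) := by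
    refine dvd_trans ?_ (Subgroup.card_subgroup_dvd_card φ.range)
    rw [← Subgroup.index_ker, hker]
    exact hpd
  rw [Nat.card_perm, h4, show Nat.factorial 4 = 2 ^ 3 * 3 from rfl] at hdvd
  rcases hp.dvd_mul.1 hdvd with h | h
  · exact absurd ((Nat.prime_dvd_prime_iff_eq hp Nat.prime_two).1 (hp.dvd_of_dvd_pow h)) hp2
  · exact (Nat.prime_dvd_prime_iff_eq hp Nat.prime_three).1 h ▸
      mem_pi_of_dvd_relIndex M.homog (piGroup_of_isPGroup M.two S.2) hp hpd

end Min

/-! ### The linear group -/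

section PSL

variable {F : Type} [Field F] [Fintype F]

local notation "SS" => Matrix.SpecialLinearGroup (Fin 2) F
local notation "π₂" => Classical.slToPSL 2 F
local notation "mk2" => Fus.PSLTwo.mk2 (F := F)

theorem two_ne_zero' (hodd : Odd (Fintype.card F)) : (2 : F) ≠ 0 :=
  Fus.PSLTwo.two_ne_zero_of_odd (Nat.odd_iff.1 hodd)

/-- An element with trace zero gives an involution. -/
theorem order_flip (hodd : Odd (Fintype.card F)) {a b c : F} (h : a * -a - b * c = 1) :
    orderOf (π₂ (mk2 a b c (-a) h)) = 2 := by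
  refine orderOf_eq_prime ?_ fun e => ?_
  · rw [Classical.slToPSL_pow_eq_one_iff]
    refine ⟨-1, ?_⟩
    ext i j
    fin_cases i <;> fin_cases j <;>
      simp [Fus.PSLTwo.coe_mk2, Matrix.SpecialLinearGroup.coe_mul, Matrix.SpecialLinearGroup.coe_inv, pow_two, Matrix.mul_apply, Fin.sum_univ_two] <;>
      first | linear_combination -h | linear_combination (0 : F) * h
  · obtain ⟨k, hk⟩ := (Classical.slToPSL_eq_one_iff _).1 e
    have h00 := congrFun (congrFun hk 0) 0
    have h01 := congrFun (congrFun hk 0) 1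
    have h11 := congrFun (congrFun hk 1) 1
    simp [Fus.PSLTwo.coe_mk2] at h00 h01 h11
    have h2 : (2 : F) * a = 0 := by linear_combination h00 - h11
    have ha := (mul_eq_zero.1 h2).resolve_left (two_ne_zero' hodd)
    rw [ha, h01] at h
    simp at h

/-- Away from characteristic 3 an element of order 3 is inverted by an involution. -/
theorem exists_real_three (hodd : Odd (Fintype.card F)) (h3 : (3 : F) ≠ 0) :
    ∃ t x : Matrix.ProjectiveSpecialLinearGroup (Fin 2) F, orderOf t = 2 ∧ orderOf x = 3 ∧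
      t * x * t⁻¹ = x⁻¹ := by
  obtain ⟨x, y, hxy⟩ := FiniteField.exists_root_sum_quadratic (R := F)
    (f := Polynomial.X ^ 2) (g := Polynomial.C 3 * Polynomial.X ^ 2 + Polynomial.C 4)
    (by simp) (Polynomial.degree_quadratic (a := 3) (b := 0) (c := 4) h3 |> fun h => by
      simpa using h) (Nat.odd_iff.1 hodd)
  simp at hxy
  set c := y with hc
  set a := (x + c) / 2 with ha
  have h2 := two_ne_zero' (F := F) hodd
  have hdet : a * -a - (c - a) * c = 1 := by
    rw [ha]
    field_simp
    linear_combination -hxy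
  set d : SS := mk2 0 (-1) 1 (-1) (by ring) with hd
  set w : SS := mk2 a (c - a) c (-a) hdet with hw
  refine ⟨π₂ w, π₂ d, order_flip hodd hdet, orderOf_eq_prime ?_ ?_, ?_⟩
  · rw [Classical.slToPSL_pow_eq_one_iff]
    refine ⟨1, ?_⟩
    ext i j
    fin_cases i <;> fin_cases j <;>
      simp [hd, Fus.PSLTwo.coe_mk2, Matrix.SpecialLinearGroup.coe_mul, Matrix.SpecialLinearGroup.coe_inv, pow_succ, Matrix.mul_apply, Fin.sum_univ_two]
  · intro e
    obtain ⟨k, hk⟩ := (Classical.slToPSL_eq_one_iff _).1 e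
    have h10 := congrFun (congrFun hk 1) 0
    simp [hd, Fus.PSLTwo.coe_mk2] at h10
  · rw [← map_inv, ← map_mul, ← map_mul, ← map_inv]
    congr 1
    rw [mul_inv_eq_iff_eq_mul]
    apply Subtype.ext
    ext i j
    fin_cases i <;> fin_cases j <;>
      simp [hd, hw, Fus.PSLTwo.coe_mk2, Matrix.SpecialLinearGroup.coe_mul, Matrix.SpecialLinearGroup.coe_inv, Matrix.mul_apply, Fin.sum_univ_two, Matrix.adjugate_fin_two] <;> ring

/-- In characteristic 3: a torus element of odd prime order normalizing, not centralizing, a 3-group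
and inverted by an involution. -/
theorem exists_torus_three (hodd : Odd (Fintype.card F)) (h3 : (3 : F) = 0)
    (hq : Fintype.card F % 4 = 3) (hq3 : 3 < Fintype.card F) :
    ∃ (t h : Matrix.ProjectiveSpecialLinearGroup (Fin 2) F)
      (U : Subgroup (Matrix.ProjectiveSpecialLinearGroup (Fin 2) F)),
      orderOf t = 2 ∧ Odd (orderOf h) ∧ t * h * t⁻¹ = h⁻¹ ∧ IsPGroup 3 ↥U ∧
        h ∈ normalizer (U : Set _) ∧ h ∉ centralizer (U : Set _) ∧
        ∃ r : ℕ, r.Prime ∧ orderOf h = r := by
  obtain ⟨r, hr, hrd⟩ := Nat.exists_prime_and_dvd (n := (Fintype.card F - 1) / 2) (by omega)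
  haveI := Fact.mk hr
  have hr2 : r ≠ 2 := by
    rintro rfl
    omega
  obtain ⟨a, ha⟩ := exists_prime_orderOf_dvd_card' (G := Fˣ) r (by
    rw [Nat.card_units, Nat.card_eq_fintype_card]
    exact hrd.trans (Nat.div_dvd_of_dvd (by omega)))
  set A : SS := mk2 (a : F) 0 0 (a⁻¹ : Fˣ) (by simp) with hA
  let η : Multiplicative F →* SS :=
    { toFun := fun b => mk2 1 b.toAdd 0 1 (by ring)
      map_one' := by
        apply Subtype.ext
        ext i j
        fin_cases i <;> fin_cases j <;> simp [Fus.PSLTwo.coe_mk2]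
      map_mul' := fun b c => by
        apply Subtype.ext
        ext i j
        fin_cases i <;> fin_cases j <;> simp [Fus.PSLTwo.coe_mk2, Matrix.SpecialLinearGroup.coe_mul, Matrix.SpecialLinearGroup.coe_inv, Matrix.mul_apply, Fin.sum_univ_two, add_comm] }
  have hη : ∀ b, ((η b : SS) : Matrix (Fin 2) (Fin 2) F) = !![1, b.toAdd; 0, 1] := fun b => rfl
  set U := ((π₂).comp η).range with hU
  have hdet : (0 : F) * -0 - 1 * -1 = 1 := by ring
  have hord : orderOf (π₂ A) = r := by
    refine orderOf_eq_prime ?_ fun e => ?_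
    · rw [Classical.slToPSL_pow_eq_one_iff]
      refine ⟨1, ?_⟩
      have h1 : ((a : F)) ^ r = 1 := by
        rw [← Units.val_pow_eq_pow_val, ← ha, pow_orderOf_eq_one, Units.val_one]
      have h1' : (((a⁻¹ : Fˣ)) : F) ^ r = 1 := by
        rw [← Units.val_pow_eq_pow_val, inv_pow, ← ha, pow_orderOf_eq_one, inv_one, Units.val_one]
      have : (A : Matrix (Fin 2) (Fin 2) F) = Matrix.diagonal ![(a : F), ((a⁻¹ : Fˣ) : F)] := by
        ext i j
        fin_cases i <;> fin_cases j <;> simp [hA, Fus.PSLTwo.coe_mk2]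
      rw [this, Matrix.diagonal_pow, map_one, ← Matrix.diagonal_one]
      congr 1
      ext i
      fin_cases i <;> simp [h1, h1']
    · obtain ⟨k, hk⟩ := (Classical.slToPSL_eq_one_iff _).1 e
      have h00 := congrFun (congrFun hk 0) 0
      have h11 := congrFun (congrFun hk 1) 1
      simp [hA, Fus.PSLTwo.coe_mk2] at h00 h11
      have h2 : a ^ 2 = 1 := by
        have h' : (a : F) = ((a⁻¹ : Fˣ) : F) := by simpa using h00.trans h11.symm
        rw [pow_two]
        nth_rewrite 2 [Units.ext h']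
        exact mul_inv_cancel a
      have := orderOf_dvd_of_pow_eq_one h2
      rw [ha] at this
      exact hr2 ((Nat.prime_dvd_prime_iff_eq hr Nat.prime_two).1 this)
  refine ⟨π₂ (mk2 0 1 (-1) (-0) hdet), π₂ A, U, order_flip hodd hdet,
    hord.symm ▸ hr.odd_of_ne_two hr2, ?_, ?_, ?_, ?_, r, hr, hord⟩
  · rw [← map_inv, ← map_mul, ← map_mul, ← map_inv]
    congr 1
    rw [mul_inv_eq_iff_eq_mul]
    apply Subtype.ext
    ext i j
    fin_cases i <;> fin_cases j <;>
      simp [hA, Fus.PSLTwo.coe_mk2, Matrix.SpecialLinearGroup.coe_mul, Matrix.SpecialLinearGroup.coe_inv, Matrix.mul_apply, Fin.sum_univ_two, Matrix.adjugate_fin_two]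
  · intro u
    refine ⟨1, Subtype.ext ?_⟩
    obtain ⟨b, hb⟩ := u.2
    rw [SubmonoidClass.coe_pow, ← hb, ← map_pow, pow_one, show b ^ 3 = 1 by
      refine Multiplicative.toAdd.injective ?_
      rw [toAdd_pow, toAdd_one, nsmul_eq_mul, Nat.cast_ofNat, h3, zero_mul], map_one]
    rfl
  · refine mem_normalizer_iff.2 fun u => ⟨?_, ?_⟩
    · rintro ⟨b, rfl⟩
      refine ⟨Multiplicative.ofAdd ((a : F) * a * b.toAdd), ?_⟩
      show π₂ (η _) = π₂ A * π₂ (η b) * (π₂ A)⁻¹
      rw [← map_inv, ← map_mul, ← map_mul]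
      congr 1
      rw [eq_mul_inv_iff_mul_eq]
      apply Subtype.ext
      ext i j
      fin_cases i <;> fin_cases j <;>
        simp [hη, hA, Fus.PSLTwo.coe_mk2, Matrix.SpecialLinearGroup.coe_mul, Matrix.SpecialLinearGroup.coe_inv, Matrix.mul_apply, Fin.sum_univ_two]
      field_simp
    · rintro ⟨b, hb⟩
      refine ⟨Multiplicative.ofAdd (b.toAdd / ((a : F) * a)), ?_⟩
      show π₂ (η _) = u
      rw [show u = (π₂ A)⁻¹ * π₂ (η b) * π₂ A by
        rw [show π₂ (η b) = π₂ A * u * (π₂ A)⁻¹ from hb]; group, ← map_inv, ← map_mul, ← map_mul]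
      congr 1
      rw [mul_assoc, eq_inv_mul_iff_mul_eq]
      apply Subtype.ext
      ext i j
      fin_cases i <;> fin_cases j <;>
        simp [hη, hA, Fus.PSLTwo.coe_mk2, Matrix.SpecialLinearGroup.coe_mul, Matrix.SpecialLinearGroup.coe_inv, Matrix.mul_apply, Fin.sum_univ_two]
      field_simp
  · intro hcen
    have h1 := mem_centralizer_iff.1 hcen (π₂ (η (Multiplicative.ofAdd 1))) ⟨_, rfl⟩
    rw [← map_mul, ← map_mul, ← inv_mul_eq_one, ← map_inv, ← map_mul,
      Classical.slToPSL_eq_one_iff] at h1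
    obtain ⟨k, hk⟩ := h1
    have h01 := congrFun (congrFun hk 0) 1
    have h00 := congrFun (congrFun hk 0) 0
    simp [hη, hA, Fus.PSLTwo.coe_mk2, Matrix.SpecialLinearGroup.coe_mul, Matrix.SpecialLinearGroup.coe_inv, Matrix.mul_apply, Fin.sum_univ_two, Matrix.adjugate_fin_two] at h00 h01
    have ha0 : (a : F) ≠ 0 := a.ne_zero
    field_simp at h01
    have h2 : a ^ 2 = 1 := Units.ext (by rw [Units.val_pow_eq_pow_val, Units.val_one]; linear_combination h01)
    have := orderOf_dvd_of_pow_eq_one h2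
    rw [ha] at this
    exact hr2 ((Nat.prime_dvd_prime_iff_eq hr Nat.prime_two).1 this)

end PSL

/-- Klein four Sylow 2-subgroups do not occur. -/
theorem Min.false_of_klein (M : Min π G) [IsSimpleGroup G] (S : Sylow 2 G)
    (h : Nonempty (↥(S : Subgroup G) ≃* DihedralGroup 2)) : False := by
  haveI : Fact (Nat.Prime 2) := ⟨Nat.prime_two⟩
  have h4 : Nat.card ↥(S : Subgroup G) = 4 := by
    rw [Nat.card_congr h.some.toEquiv, DihedralGroup.nat_card]
  have h8 : ¬ 8 ∣ Nat.card G := fun h8 => by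
    have h1 : 2 ^ 3 ∣ Nat.card ↥(S : Subgroup G) := S.pow_dvd_card_of_pow_dvd_card h8
    rw [h4] at h1
    norm_num at h1
  haveI : Group.IsPerfect G := ⟨((inferInstance : (commutator G).Normal).eq_bot_or_eq_top).resolve_left
    fun e => M.nc ⟨⟨fun a b => commutatorElement_eq_one_iff_mul_comm.1
      (mem_bot.1 (e ▸ commutator_mem_commutator (mem_top a) (mem_top b)))⟩⟩⟩
  have strip : ∀ {Q : Type} [Group Q], Nonempty (G ⧸ Cfsg.oddCore G ≃* Q) → Nonempty (G ≃* Q) :=
    fun {Q} _ ⟨f⟩ =>
      ⟨((QuotientGroup.quotientMulEquivOfEq M.oddCore_eq_bot).trans QuotientGroup.quotientBot).symm.trans f⟩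
  have h3 := M.three_mem S h4
  rcases Cfsg.Agent.S0483.result S 2 le_rfl h with ⟨F, hFi, hFf, hodd, hq3, hf⟩ | hf
  · obtain ⟨f⟩ := strip hf
    have hq8 := GW.Klein.PSL.mod_eight hodd fun e => h8 (Nat.card_congr f.toEquiv ▸ e)
    have back : ∀ {t x : Matrix.ProjectiveSpecialLinearGroup (Fin 2) F}, t * x * t⁻¹ = x⁻¹ →
        f.symm t * f.symm x * (f.symm t)⁻¹ = (f.symm x)⁻¹ := fun e => by
      rw [← map_inv, ← map_mul, ← map_mul, e, map_inv]
    have ord : ∀ y : Matrix.ProjectiveSpecialLinearGroup (Fin 2) F, orderOf (f.symm y) = orderOf y :=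
      fun y => orderOf_injective f.symm.toMonoidHom f.symm.injective y
    by_cases hc : (3 : F) = 0
    · have hq4 : Fintype.card F % 4 = 3 := by
        haveI : Fact (Nat.Prime 3) := ⟨Nat.prime_three⟩
        haveI : CharP F 3 := CharP.charP_iff_prime_eq_zero Nat.prime_three |>.2 (by exact_mod_cast hc)
        obtain ⟨k, -, hk⟩ := FiniteField.card F 3
        rcases Nat.even_or_odd (k : ℕ) with ⟨j, hj⟩ | ⟨j, hj⟩
        · exfalso
          have h9 : Fintype.card F % 8 = 1 := by
            rw [hk, hj, ← two_mul, pow_mul, Nat.pow_mod]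
            norm_num
          omega
        · rw [hk, hj, pow_succ, pow_mul, Nat.mul_mod, Nat.pow_mod]
          norm_num
      obtain ⟨t, x, U, ht, hxodd, hinv, hU, hxU, hxC, r, hr, hxr⟩ := exists_torus_three hodd hc hq4 hq3
      have hrπ : r ∉ π := fun hrπ => by
        have h1 := M.eq_one_of_real ((ord t).trans ht) (fun p hp hpd => by
          rw [ord, hxr] at hpd
          rwa [(Nat.prime_dvd_prime_iff_eq hp hr).1 hpd]) (by rwa [ord]) (back hinv)
        have h2 := ord x
        rw [h1, orderOf_one, hxr] at h2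
        exact hr.ne_one h2.symm
      haveI : Fact (Nat.Prime 3) := ⟨Nat.prime_three⟩
      have hcen := M.homog (U.map f.symm.toMonoidHom) (piGroup_of_isPGroup h3 (hU.map _)) (f.symm x)
        (fun p hp hpd => by
          rw [ord, hxr] at hpd
          rwa [(Nat.prime_dvd_prime_iff_eq hp hr).1 hpd])
        (le_normalizer_map f.symm.toMonoidHom (mem_map_of_mem _ hxU))
      exact hxC (mem_centralizer_iff.2 fun u hu => f.symm.injective (by
        rw [map_mul, map_mul]
        exact mem_centralizer_iff.1 hcen _ (mem_map_of_mem f.symm.toMonoidHom hu)))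
    · obtain ⟨t, x, ht, hx, hinv⟩ := exists_real_three hodd hc
      have h1 := M.eq_one_of_real ((ord t).trans ht) (fun p hp hpd => by
        rw [ord, hx] at hpd
        rwa [(Nat.prime_dvd_prime_iff_eq hp Nat.prime_three).1 hpd])
        (by rw [ord, hx]; decide) (back hinv)
      have h2 := ord x
      rw [h1, orderOf_one, hx] at h2
      omega
  · obtain ⟨f⟩ := strip hf
    refine absurd ?_ h8
    rw [Nat.card_congr f.toEquiv, nat_card_alternatingGroup, Nat.card_eq_fintype_card, Fintype.card_fin]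
    decide

end Cfsg.Agent.Invol.PiTwoClosed
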