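import Cfsg.Agent.Lib.Invol.PiTwoClosed.Small
import Cfsg.Agent.Lib.Invol.SPEmbedded
import Cfsg.Agent.Lib.Transfer.UFLyons.JOne
import Cfsg.Agent.Lib.Transfer.UnitaryCore.Main
import Cfsg.Agent.Lib.Grp.Signalizer

/-!
# The case of a Sylow 2-subgroup of `PSU(3, 4)` type

The step `j = 1` of Lyons' argument makes the cores abelian of prime exponent and free of fixed points of
the centre `V` of `S`, so two maximal `V`-invariant `p`-subgroups meeting nontrivially are equal.  Either
one of them holds all three cores and its normalizer is strongly embedded, or each core is inverted by the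
other involutions of `V` and is free for the element of order five, so it is trivial by `Data.eq_bot`.
-/

set_option autoImplicit false
set_option linter.unusedSectionVars false
set_option linter.style.haveILetI false

namespace Cfsg.Agent.Invol.PiTwoClosed

open Subgroup
open Transfer.UnitaryFour (cen cen_le)
open scoped Pointwise

universe u

variable {G : Type u} [Group G] [Finite G] {π : Set ℕ}

/-- The block data at every central involution. -/
def HasData (S : Sylow 2 G) : Prop :=
  ∀ v ∈ cen S, v ≠ 1 → ∃ (x : G) (K : Subgroup G), Transfer.UnitaryCore.Data S v x K ⊥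

/-- Conjugation by an element normalizing `V`. -/
theorem normalizes_conj {V U : Subgroup G} {g : G} (hV : V ≤ normalizer (U : Set G))
    (hg : MulAut.conj g • V = V) : V ≤ normalizer ((MulAut.conj g • U : Subgroup G) : Set G) := by
  rw [← hg, ← Grp.map_conj_eq_smul, ← Grp.map_conj_eq_smul]
  exact (Subgroup.map_mono hV).trans (le_normalizer_map _)

namespace Min

variable (M : Min π G) [IsSimpleGroup G]
include M

theorem false_of_data (S : Sylow 2 G) (hall : HasData S) : False := by
  classical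
  haveI : Fintype G := Fintype.ofFinite G
  haveI : Fact (Nat.Prime 2) := ⟨Nat.prime_two⟩
  obtain ⟨z, hzS, hz2, hzc⟩ := CoreConsumers.exists_central_involution S.2 (M.sylow_ne_bot S)
  have hzV : z ∈ cen S := ⟨⟨z, hzS⟩, mem_center_iff.2 fun g => Subtype.ext (hzc g g.2).symm.eq, rfl⟩
  have hz1 : z ≠ 1 := fun h => by rw [h, orderOf_one] at hz2; omega
  obtain ⟨x, K, D⟩ := hall z hzV hz1
  set V := cen S with hVdef
  set W : G → Subgroup G := fun v => piCore π (centralizer ({v} : Set G)) with hWdef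
  have hordV : ∀ v ∈ V, v ≠ 1 → orderOf v = 2 := fun v hv hv1 =>
    orderOf_eq_prime (by rw [pow_two, D.cen_sq hv]) hv1
  have hSC : ∀ v ∈ V, (S : Subgroup G) ≤ centralizer ({v} : Set G) := fun v hv =>
    Transfer.UnitaryFour.Hyp.le_cent hv
  have hWS : ∀ v ∈ V, (S : Subgroup G) ≤ normalizer (W v : Set G) := fun v hv s hs =>
    mem_normalizer_iff.2 fun y => ⟨piCore_normal (hSC v hv hs), fun h => by
      have h1 := piCore_normal (inv_mem (hSC v hv hs)) h
      rwa [show s⁻¹ * (s * y * s⁻¹) * s⁻¹⁻¹ = y by group] at h1⟩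
  -- the three cores
  have hcores : ∀ v ∈ V, v ≠ 1 → (∀ y ∈ W v, ∀ y' ∈ W v, y * y' = y' * y) ∧
      W v ⊓ centralizer (V : Set G) = ⊥ ∧ ∃ p : ℕ, p.Prime ∧ ∀ y ∈ W v, y ^ p = 1 := by
    intro v hv hv1
    obtain ⟨x', K', D'⟩ := hall v hv hv1
    have hle : W v ≤ K' := Transfer.UFLyons.odd_le_core D'
      (M.odd_piCore (M.centralizer_ne_top hv1)) (piCore_le _) (hWS v hv)
    rcases Transfer.UFLyons.core_linear D' hall with ⟨X, hX⟩ | ⟨hc, hb, p, hp, he⟩
    · obtain ⟨hev, htop, hodd⟩ := Invol.isStronglyPEmbedded_iff.1 hX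
      exact (M.false_of_stronglyEmbedded ⟨htop, even_iff_two_dvd.2 hev, fun g hg =>
        Nat.not_even_iff_odd.1 fun h => hodd g hg (even_iff_two_dvd.1 h)⟩).elim
    · exact ⟨fun y hy y' hy' => hc y (hle hy) y' (hle hy'),
        le_bot_iff.1 ((inf_le_inf_right _ hle).trans hb.le), p, hp, fun y hy => he y (hle hy)⟩
  have hfix : ∀ j : G, IsPiEl πᶜ j → j ∈ centralizer (V : Set G) → j = 1 := fun j hj hjV => by
    have h : j ∈ W z ⊓ centralizer (V : Set G) := ⟨subset_piCore
      (mem_centralizer_singleton_iff.2 (mem_centralizer_iff.1 hjV z hzV).symm) hj, hjV⟩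
    rwa [(hcores z hzV hz1).2.1, mem_bot] at h
  have hmap : ∀ n v : G, MulAut.conj n • W v = W (n * v * n⁻¹) := fun n v => by
    rw [← Grp.map_conj_eq_smul]
    exact (core_conj v n).symm
  have hNV : ∀ n ∈ normalizer ((S : Subgroup G) : Set G), ∀ v ∈ V, n * v * n⁻¹ ∈ V := fun n hn v hv =>
    Transfer.UnitaryFour.Hyp.cen_normal hn hv
  have hNV' : ∀ n ∈ normalizer ((S : Subgroup G) : Set G), MulAut.conj n • V = V := fun n hn => by
    ext y
    constructor
    · rintro ⟨v, hv, rfl⟩
      exact hNV n hn v hv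
    · intro hy
      exact ⟨n⁻¹ * y * n, by have := hNV n⁻¹ (inv_mem hn) y hy; rwa [inv_inv] at this,
        by show n * (n⁻¹ * y * n) * n⁻¹ = y; group⟩
  by_cases hWz : W z = ⊥
  · refine M.false_of_cores fun t ht => ?_
    obtain ⟨T, hT⟩ := (IsPGroup.of_card (p := 2) (n := 1)
      (show Nat.card ↥(zpowers t) = 2 ^ 1 by rw [Nat.card_zpowers, ht, pow_one])).exists_le_sylow
    obtain ⟨g, hg⟩ := MulAction.exists_smul_eq G T S
    have hmem : g * t * g⁻¹ ∈ (S : Subgroup G) := by
      rw [← hg, Sylow.coe_subgroup_smul]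
      exact ⟨t, hT (mem_zpowers t), rfl⟩
    have ho : orderOf (g * t * g⁻¹) = 2 := by rw [orderOf_conj_eq, ht]
    have hvV : g * t * g⁻¹ ∈ V := D.mem_cen_of_sq hmem
      (by rw [← pow_two]; exact orderOf_dvd_iff_pow_eq_one.1 (dvd_of_eq ho))
    obtain ⟨n, hn, e⟩ := D.fused _ hvV (fun h => by rw [h, orderOf_one] at ho; omega)
    have h1 : W (g * t * g⁻¹) = ⊥ := by
      rw [← e, ← hmap, hWz]
      exact Subgroup.smul_bot _
    exact (Subgroup.map_eq_bot_iff_of_injective _ (MulAut.conj g).injective).1 ((core_conj t g).symm.trans h1)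
  obtain ⟨habz, -, p, hp, hpz⟩ := hcores z hzV hz1
  haveI := Fact.mk hp
  obtain ⟨y₀, hy₀, hy₀1⟩ : ∃ y ∈ W z, y ≠ 1 := by
    by_contra h
    push Not at h
    exact hWz ((Subgroup.eq_bot_iff_forall _).2 h)
  have hpord : orderOf y₀ = p := orderOf_eq_prime (hpz y₀ hy₀) hy₀1
  have hp' : p ∈ πᶜ := ((M.mem_piCore (M.centralizer_ne_top hz1)).1 hy₀).2 p hp (dvd_of_eq hpord.symm)
  have hppi : ∀ {U : Subgroup G}, IsPGroup p U → ∀ y ∈ U, IsPiEl πᶜ y := fun hU y hy =>
    isPiEl_of_mem (piGroup_of_isPGroup hp' hU) hy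
  have hVp : IsPGroup 2 V := S.2.to_le cen_le
  have hVz : ∀ v ∈ V, V ≤ centralizer ({v} : Set G) := fun v hv => cen_le.trans (hSC v hv)
  have hWV : ∀ v ∈ V, V ≤ normalizer (W v : Set G) := fun v hv => cen_le.trans (hWS v hv)
  -- two invariant subgroups inside one proper subgroup
  have hjoin : ∀ H A B : Subgroup G, H ≠ ⊤ → V ≤ normalizer (H : Set G) → A ≤ H → B ≤ H →
      IsPGroup p A → IsPGroup p B → V ≤ normalizer (A : Set G) → V ≤ normalizer (B : Set G) →
      ∃ R : Subgroup G, IsPGroup p R ∧ V ≤ normalizer (R : Set G) ∧ A ≤ R ∧ B ≤ R := by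
    intro H A B hH hVH hAH hBH hA hB hVA hVB
    set J := piCore π H with hJ
    have hVJ : V ≤ normalizer (J : Set G) := fun v hv => mem_normalizer_iff.2 fun y =>
      ⟨conj_piCore fun w hw => (mem_normalizer_iff.1 (hVH hv) w).1 hw, fun h => by
        have h1 := conj_piCore (g := v⁻¹) (fun w hw => (mem_normalizer_iff.1 (inv_mem (hVH hv)) w).1 hw) h
        rwa [show v⁻¹ * (v * y * v⁻¹) * v⁻¹⁻¹ = y by group] at h1⟩
    have hcop : (Nat.card ↥V).Coprime (Nat.card ↥J) := (M.piGroup_two hVp).coprime (M.piGroup_piCore hH)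
    haveI : Group.IsNilpotent ↥V := hVp.isNilpotent
    have hsol : Group.IsSolvable ↥V ∨ Group.IsSolvable ↥J :=
      Or.inr (Cfsg.Agent.S0205.result (M.odd_piCore hH))
    have hAJ : A ≤ J := fun y hy => subset_piCore (hAH hy) (hppi hA y hy)
    have hBJ : B ≤ J := fun y hy => subset_piCore (hBH hy) (hppi hB y hy)
    obtain ⟨X, hX, hXV, hAX⟩ := Grp.exists_invariant_sylow_ge V J hVJ hcop hsol hAJ hA hVA
    obtain ⟨Y, hY, hYV, hBY⟩ := Grp.exists_invariant_sylow_ge V J hVJ hcop hsol hBJ hB hVB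
    obtain ⟨c, hc, e⟩ := Grp.invariant_sylow_conj V J hVJ hcop hsol hY hX hYV hXV
    rw [hfix c ((M.mem_piCore hH).1 hc.1).2 hc.2, map_one, one_smul] at e
    exact ⟨X, hX.2.1, hXV, hAX, e ▸ hBY⟩
  set F : Set (Subgroup G) := {Q | IsPGroup p Q ∧ V ≤ normalizer (Q : Set G)} with hF
  have hge : ∀ A, A ∈ F → ∃ Q, A ≤ Q ∧ Maximal (· ∈ F) Q := fun A hA =>
    F.toFinite.exists_le_maximal hA
  have hgrow : ∀ Q D' : Subgroup G, IsPGroup p Q → D' < Q → D' < Q ⊓ normalizer (D' : Set G) := by
    intro Q D' hQ hD'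
    refine lt_of_le_of_ne (le_inf hD'.le le_normalizer) fun h => ?_
    haveI : Group.IsNilpotent ↥Q := hQ.isNilpotent
    obtain ⟨y, hyn, hyD⟩ := SetLike.exists_of_lt (Group.normalizerCondition_of_isNilpotent (D'.subgroupOf Q)
      (lt_top_iff_ne_top.2 fun h' => hD'.not_ge (subgroupOf_eq_top.1 h')))
    refine hyD (mem_subgroupOf.2 ?_)
    rw [h]
    refine ⟨y.2, mem_normalizer_iff.2 fun w => ⟨fun hw => ?_, fun hw => ?_⟩⟩
    · exact mem_subgroupOf.1 ((mem_normalizer_iff.1 hyn ⟨w, hD'.le hw⟩).1 hw)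
    · have hwQ : w ∈ Q := by
        have := mul_mem (mul_mem (inv_mem y.2) (hD'.le hw)) y.2
        rwa [show (y : G)⁻¹ * ((y : G) * w * (y : G)⁻¹) * y = w by group] at this
      exact mem_subgroupOf.1 ((mem_normalizer_iff.1 hyn ⟨w, hwQ⟩).2 hw)
  have huniq : ∀ Q₁ Q₂ : Subgroup G, Maximal (· ∈ F) Q₁ → Maximal (· ∈ F) Q₂ → Q₁ ⊓ Q₂ ≠ ⊥ → Q₁ = Q₂ := by
    intro Q₁ Q₂ h1 h2 hne
    induction hn : Nat.card G - Nat.card ↥(Q₁ ⊓ Q₂) using Nat.strong_induction_on generalizing Q₁ Q₂ with
    | _ n ih =>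
    by_contra hne'
    set D' := Q₁ ⊓ Q₂ with hD'
    have hD1 : D' < Q₁ := lt_of_le_of_ne inf_le_left fun e =>
      hne' (le_antisymm (inf_eq_left.1 e) (h1.2 h2.1 (inf_eq_left.1 e)))
    have hD2 : D' < Q₂ := lt_of_le_of_ne inf_le_right fun e =>
      hne' (le_antisymm (h2.2 h1.1 (inf_eq_right.1 e)) (inf_eq_right.1 e))
    have hDp : IsPGroup p D' := h1.1.1.to_le inf_le_left
    have hVD : V ≤ normalizer (D' : Set G) := (le_inf h1.1.2 h2.1.2).trans inf_normalizer_le_normalizer_inf
    have htop : D' ≠ ⊤ := fun e => by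
      have h := hppi hDp z (e ▸ mem_top z) 2 Nat.prime_two (dvd_of_eq hz2.symm)
      exact h M.two
    have hNtop : normalizer (D' : Set G) ≠ ⊤ := M.ne_top_of_normalized hne htop le_rfl
    have hVN : V ≤ normalizer ((normalizer (D' : Set G) : Subgroup G) : Set G) := hVD.trans le_normalizer
    obtain ⟨R, hR, hVR, hR1, hR2⟩ := hjoin (normalizer (D' : Set G)) (Q₁ ⊓ normalizer (D' : Set G))
      (Q₂ ⊓ normalizer (D' : Set G)) hNtop hVN inf_le_right inf_le_right (h1.1.1.to_le inf_le_left)
      (h2.1.1.to_le inf_le_left) ((le_inf h1.1.2 hVN).trans inf_normalizer_le_normalizer_inf)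
      ((le_inf h2.1.2 hVN).trans inf_normalizer_le_normalizer_inf)
    obtain ⟨Q₃, hRQ, h3⟩ := hge R ⟨hR, hVR⟩
    have key : ∀ Q, Maximal (· ∈ F) Q → D' < Q → Q ⊓ normalizer (D' : Set G) ≤ R → Q = Q₃ := by
      intro Q hQ hlt hle
      have hlt' : D' < Q ⊓ Q₃ :=
        (hgrow Q D' hQ.1.1 hlt).trans_le (le_inf inf_le_left (hle.trans hRQ))
      refine ih _ ?_ Q Q₃ hQ h3 (ne_bot_of_gt hlt') rfl
      have h4 : Nat.card ↥D' < Nat.card ↥(Q ⊓ Q₃) :=
        Set.Finite.card_lt_card (Set.toFinite _) (SetLike.coe_ssubset_coe.2 hlt')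
      have h5 := Subgroup.card_le_card_group (Q ⊓ Q₃)
      omega
    exact hne' ((key Q₁ h1 hD1 hR1).trans (key Q₂ h2 hD2 hR2).symm)
  have hsmulF : ∀ g : G, MulAut.conj g • V = V → ∀ Q, Maximal (· ∈ F) Q →
      Maximal (· ∈ F) (MulAut.conj g • Q) := by
    intro g hg Q hQ
    refine ⟨⟨hQ.1.1.map _, normalizes_conj hQ.1.2 hg⟩, fun R hR hle => ?_⟩
    have hgi : MulAut.conj g⁻¹ • V = V := by rw [map_inv, inv_smul_eq_iff, hg]
    have h1 : MulAut.conj g⁻¹ • R ∈ F := ⟨hR.1.map _, normalizes_conj hR.2 hgi⟩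
    have h2 : Q ≤ MulAut.conj g⁻¹ • R := by
      rw [map_inv, ← Subgroup.pointwise_smul_le_pointwise_smul_iff (a := MulAut.conj g), smul_inv_smul]
      exact hle
    have h3 := hQ.2 h1 h2
    rwa [map_inv, ← Subgroup.pointwise_smul_le_pointwise_smul_iff (a := MulAut.conj g), smul_inv_smul] at h3
  have hWzp : IsPGroup p (W z) := fun y => ⟨1, Subtype.ext (by
    rw [SubmonoidClass.coe_pow, pow_one]
    exact hpz y y.2)⟩
  obtain ⟨Q, hWQ, hQ⟩ := hge (W z) ⟨hWzp, hWV z hzV⟩
  have hQ1 : Q ≠ ⊥ := fun h => hWz (le_bot_iff.1 (h ▸ hWQ))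
  -- the maximal member over the core of another involution
  have hsame : ∀ n ∈ normalizer ((S : Subgroup G) : Set G), ∀ y ∈ Q, y ≠ 1 →
      y ∈ centralizer ({n * z * n⁻¹} : Set G) → MulAut.conj n • Q = Q := by
    intro n hn y hy hy1 hyC
    have hy' : y ∈ W (n * z * n⁻¹) := subset_piCore hyC (hppi hQ.1.1 y hy)
    rw [← hmap] at hy'
    have hyQ : y ∈ MulAut.conj n • Q := Subgroup.pointwise_smul_le_pointwise_smul_iff.2 hWQ hy'
    exact huniq _ _ (hsmulF n (hNV' n hn) Q hQ) hQ fun h => hy1 (mem_bot.1 (h ▸ ⟨hyQ, hy⟩))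
  by_cases hmeet : ∃ v ∈ V, v ≠ 1 ∧ v ≠ z ∧ ∃ y ∈ Q, y ≠ 1 ∧ y ∈ centralizer ({v} : Set G)
  · obtain ⟨v, hv, hv1, hvz, y, hy, hy1, hyC⟩ := hmeet
    obtain ⟨n, hn, e⟩ := D.fused v hv hv1
    have hnQ := hsame n hn y hy hy1 (by rw [e]; exact hyC)
    have hCz : centralizer ({z} : Set G) ≤ normalizer (Q : Set G) := by
      intro g hg
      obtain ⟨P, hPU, hPp, hSP, hall'⟩ := M.exists_sylow_in (M.centralizer_ne_top hz1) S.2 (hSC z hzV)
      have hPS : P = S := S.3 hPp hSP
      subst hPS
      obtain ⟨k, hk, hkP⟩ := hall' (MulAut.conj g • (S : Subgroup G)) (S.2.map _) (by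
        rintro _ ⟨w, hw, rfl⟩
        exact mul_mem (mul_mem hg (hSC z hzV hw)) (inv_mem hg))
      have hkQ : k ∈ Q := hWQ hk
      have hkg : k⁻¹ * g ∈ normalizer ((S : Subgroup G) : Set G) := Grp.mem_normalizer_iff_smul.2 (by
        rw [map_mul, mul_smul, map_inv, inv_smul_eq_iff]
        exact Subgroup.eq_of_le_of_card_ge hkP (by rw [Grp.card_conj_smul, Grp.card_conj_smul]))
      have hfz : k⁻¹ * g * z * (k⁻¹ * g)⁻¹ = z := by
        have h1 : k⁻¹ * g ∈ centralizer ({z} : Set G) := mul_mem (inv_mem (piCore_le _ hk)) hg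
        rw [mem_centralizer_singleton_iff.1 h1, mul_inv_cancel_right]
      have h2 := hsame _ hkg y₀ (hWQ hy₀) hy₀1 (by rw [hfz]; exact piCore_le _ hy₀)
      have h3 := mul_mem (le_normalizer hkQ) (Grp.mem_normalizer_iff_smul.2 h2)
      rwa [mul_inv_cancel_left] at h3
    have hnN : n ∈ normalizer (Q : Set G) := Grp.mem_normalizer_iff_smul.2 hnQ
    have hconjC : ∀ (m : G), m ∈ normalizer (Q : Set G) → ∀ w : G,
        centralizer ({w} : Set G) ≤ normalizer (Q : Set G) →
        centralizer ({m * w * m⁻¹} : Set G) ≤ normalizer (Q : Set G) := by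
      intro m hm w hw c hc
      have h1 : m⁻¹ * c * m ∈ centralizer ({w} : Set G) := mem_centralizer_singleton_iff.2 (by
        have h := mem_centralizer_singleton_iff.1 hc
        calc m⁻¹ * c * m * w = m⁻¹ * (c * (m * w * m⁻¹)) * m := by group
          _ = m⁻¹ * (m * w * m⁻¹ * c) * m := by rw [h]
          _ = w * (m⁻¹ * c * m) := by group)
      have h2 := mul_mem (mul_mem hm (hw h1)) (inv_mem hm)
      rwa [show m * (m⁻¹ * c * m) * m⁻¹ = c by group] at h2
    have hCv : centralizer ({v} : Set G) ≤ normalizer (Q : Set G) := e ▸ hconjC n hnN z hCz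
    -- the third involution
    set w := n * v * n⁻¹ with hw
    have hwV : w ∈ V := hNV n hn v hv
    have hwv : w ≠ v := fun h => hvz (mul_left_cancel (mul_right_cancel (h.trans e.symm)))
    have hwz : w ≠ z := by
      intro h
      obtain ⟨a, b, hb, hab⟩ := Nat.exists_eq_two_pow_mul_odd (orderOf_pos n).ne'
      have hn2 : ∀ q : G, q ∈ normalizer ((S : Subgroup G) : Set G) → TwoEl q → q ∈ (S : Subgroup G) := by
        intro q hq hq2
        obtain ⟨k, hk⟩ := hq2
        have hP : IsPGroup 2 ↥((S : Subgroup G) ⊔ zpowers q) :=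
          S.2.to_sup_of_normal_left' (IsPGroup.of_card (n := k) (by rw [Nat.card_zpowers, hk]))
            (zpowers_le.2 hq)
        exact (S.3 hP le_sup_left) ▸ mem_sup_right (mem_zpowers q)
      have hb2 : TwoEl (n ^ b) := by
        refine ⟨a, ?_⟩
        rw [orderOf_pow_of_dvd hb.pos.ne' (hab ▸ Dvd.intro_left _ rfl), hab,
          Nat.mul_div_cancel _ hb.pos]
      have h1 : ∀ i : ℕ, n ^ (2 * i) * z * (n ^ (2 * i))⁻¹ = z := by
        intro i
        induction i with
        | zero => simp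
        | succ i ihi =>
          rw [show 2 * (i + 1) = 2 + 2 * i by ring, pow_add,
            show n ^ 2 * n ^ (2 * i) * z * (n ^ 2 * n ^ (2 * i))⁻¹
              = n ^ 2 * (n ^ (2 * i) * z * (n ^ (2 * i))⁻¹) * (n ^ 2)⁻¹ by group, ihi, pow_two,
            show n * n * z * (n * n)⁻¹ = n * (n * z * n⁻¹) * n⁻¹ by group, e, ← hw, h]
      obtain ⟨i, hi⟩ := hb
      have h2 : n ^ b * z * (n ^ b)⁻¹ = z := by
        have h3 := hSC z hzV (hn2 _ (pow_mem hn b) hb2)
        rw [mem_centralizer_singleton_iff.1 h3, mul_inv_cancel_right]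
      rw [hi, pow_succ', show n * n ^ (2 * i) * z * (n * n ^ (2 * i))⁻¹
        = n * (n ^ (2 * i) * z * (n ^ (2 * i))⁻¹) * n⁻¹ by group, h1, e] at h2
      exact hvz h2
    have hCw : centralizer ({w} : Set G) ≤ normalizer (Q : Set G) := hw ▸ hconjC n hnN v hCv
    have hw1 : w ≠ 1 := fun h => hv1 (by rwa [hw, conj_eq_one_iff] at h)
    have hall3 : ∀ t ∈ V, t ≠ 1 → centralizer ({t} : Set G) ≤ normalizer (Q : Set G) := by
      intro t ht ht1
      have h4 : ({1, z, v, w} : Finset G).card = 4 := by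
        simp [Finset.card_insert_of_notMem, Ne.symm hz1, Ne.symm hv1, Ne.symm hw1, Ne.symm hvz, Ne.symm hwz,
          Ne.symm hwv]
      have hsub : (({1, z, v, w} : Finset G) : Set G) ⊆ (V : Set G) := by
        intro q hq
        simp only [Finset.coe_insert, Finset.coe_singleton, Set.mem_insert_iff, Set.mem_singleton_iff] at hq
        rcases hq with rfl | rfl | rfl | rfl
        exacts [one_mem V, hzV, hv, hwV]
      have heq := Set.eq_of_subset_of_ncard_le hsub (by
        rw [Set.ncard_coe_finset, h4, ← Nat.card_coe_set_eq]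
        exact D.card_cen.le) (Set.toFinite _)
      have hmem : t ∈ (({1, z, v, w} : Finset G) : Set G) := heq ▸ ht
      simp only [Finset.coe_insert, Finset.coe_singleton, Set.mem_insert_iff, Set.mem_singleton_iff] at hmem
      rcases hmem with rfl | rfl | rfl | rfl
      exacts [absurd rfl ht1, hCz, hCv, hCw]
    have hSQ : normalizer ((S : Subgroup G) : Set G) ≤ normalizer (Q : Set G) := by
      intro g hg
      have hu : g * z * g⁻¹ ∈ V := hNV g hg z hzV
      have hu1 : g * z * g⁻¹ ≠ 1 := fun h => hz1 (conj_eq_one_iff.1 h)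
      obtain ⟨m, hm, hmQ⟩ : ∃ m ∈ normalizer ((S : Subgroup G) : Set G), m * z * m⁻¹ = g * z * g⁻¹ ∧
          MulAut.conj m • Q = Q := by
        have key : g * z * g⁻¹ = z ∨ g * z * g⁻¹ = v ∨ g * z * g⁻¹ = w := by
          by_contra hc
          push Not at hc
          have h4 : ({1, z, v, w, g * z * g⁻¹} : Finset G).card = 5 := by
            simp [Finset.card_insert_of_notMem, Ne.symm hz1, Ne.symm hv1, Ne.symm hw1, Ne.symm hvz,
              Ne.symm hwz, Ne.symm hwv, Ne.symm hu1, Ne.symm hc.1, Ne.symm hc.2.1, Ne.symm hc.2.2]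
          have h5 := Set.ncard_le_ncard (show (({1, z, v, w, g * z * g⁻¹} : Finset G) : Set G) ⊆ (V : Set G) by
            intro q hq
            simp only [Finset.coe_insert, Finset.coe_singleton, Set.mem_insert_iff, Set.mem_singleton_iff] at hq
            rcases hq with rfl | rfl | rfl | rfl | rfl
            exacts [one_mem V, hzV, hv, hwV, hu]) (Set.toFinite _)
          rw [Set.ncard_coe_finset, h4, ← Nat.card_coe_set_eq] at h5
          exact absurd (h5.trans D.card_cen.le) (by norm_num)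
        rcases key with h | h | h
        · exact ⟨1, one_mem _, by rw [h, one_mul, inv_one, mul_one], by rw [map_one, one_smul]⟩
        · exact ⟨n, hn, e.trans h.symm, hnQ⟩
        · exact ⟨n * n, mul_mem hn hn, by
            rw [show n * n * z * (n * n)⁻¹ = n * (n * z * n⁻¹) * n⁻¹ by group, e, ← hw, h],
            by rw [map_mul, mul_smul, hnQ, hnQ]⟩
      refine Grp.mem_normalizer_iff_smul.2 ?_
      have hmem : m * y₀ * m⁻¹ ∈ Q := by
        rw [← hmQ.2]
        exact ⟨y₀, hWQ hy₀, rfl⟩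
      refine hsame g hg _ hmem (fun h => hy₀1 (conj_eq_one_iff.1 h)) ?_
      rw [← hmQ.1, ← map_conj_centralizer]
      exact ⟨y₀, piCore_le _ hy₀, rfl⟩
    refine M.false_of_stronglyEmbedded (CoreConsumers.isStronglyEmbedded_of_centralizers
      (M.ne_top_of_normalized hQ1 ?_ le_rfl) S hSQ (M.sylow_ne_bot S) fun t ht ht2 => ?_)
    · intro h
      exact hppi hQ.1.1 z (h ▸ mem_top z) 2 Nat.prime_two (dvd_of_eq hz2.symm) M.two
    · exact hall3 t (D.mem_cen_of_sq ht (by rw [← pow_two]; exact orderOf_dvd_iff_pow_eq_one.1 (dvd_of_eq ht2)))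
        fun h => by rw [h, orderOf_one] at ht2; omega
  · push Not at hmeet
    obtain ⟨v, hv, hv1, hvz⟩ : ∃ v ∈ V, v ≠ 1 ∧ v ≠ z := by
      by_contra h
      push Not at h
      have h1 : (V : Set G) ⊆ ({1, z} : Set G) := fun q hq => by
        rcases eq_or_ne q 1 with rfl | hq1
        · exact Set.mem_insert _ _
        · exact Set.mem_insert_of_mem _ (h q hq hq1)
      have h2 := Set.ncard_le_ncard h1 (Set.toFinite _)
      have h3 : ({1, z} : Set G).ncard ≤ 2 := by
        refine (Set.ncard_insert_le _ _).trans ?_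
        rw [Set.ncard_singleton]
      rw [← Nat.card_coe_set_eq] at h2
      exact absurd (D.card_cen.ge.trans (h2.trans h3)) (by norm_num)
    have hQW : Q ≤ W z := by
      have hel : Cfsg.IsElementaryAbelian 2 V := ⟨⟨⟨fun a b => Subtype.ext
        (Transfer.UnitaryFour.comm_of_cen a.2 (cen_le b.2))⟩⟩, fun a ha => by rw [pow_two, D.cen_sq ha]⟩
      refine Grp.le_of_hyperplanes hel (fun h => hz1 (mem_bot.1 (h ▸ hzV))) Q ?_ hQ.1.2 fun D' hD' hi q hq => ?_
      · intro h2
        exact (piGroup_of_isPGroup hp' hQ.1.1 2 Nat.prime_two h2) M.two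
      obtain ⟨a, ha, ha1⟩ : ∃ a ∈ D', a ≠ 1 := by
        by_contra h0
        push Not at h0
        rw [(Subgroup.eq_bot_iff_forall D').2 h0, Subgroup.relIndex_bot_left] at hi
        exact absurd (D.card_cen.symm.trans hi) (by norm_num)
      have hqC : q ∈ centralizer ({a} : Set G) :=
        mem_centralizer_singleton_iff.2 (mem_centralizer_iff.1 hq.2 a ha).symm
      by_cases haz : a = z
      · subst haz
        exact subset_piCore hqC (hppi hQ.1.1 q hq.1)
      · by_contra hqW
        exact hmeet a (hD' ha) ha1 haz q hq.1 (fun h => hqW (h ▸ one_mem _)) hqC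
    have hinv : ∀ y ∈ W z, v * y * v⁻¹ = y⁻¹ := by
      intro y hy
      have hy' : v * y * v⁻¹ ∈ W z := piCore_normal (hVz z hzV hv) hy
      set q := y * (v * y * v⁻¹) with hq
      have hqv : q ∈ centralizer ({v} : Set G) := mem_centralizer_singleton_iff.2 (by
        have hvv : v * v = 1 := D.cen_sq hv
        have hvi : v⁻¹ = v := inv_eq_of_mul_eq_one_right hvv
        have h1 : v * q * v⁻¹ = q := by
          rw [hq, show v * (y * (v * y * v⁻¹)) * v⁻¹ = (v * y * v⁻¹) * ((v * v) * y * (v * v)⁻¹) by group,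
            hvv, one_mul, inv_one, mul_one]
          exact habz _ hy' _ hy
        calc q * v = v * q * v⁻¹ * v := by rw [h1]
          _ = v * q := by group)
      have hq1 : q = 1 := by
        by_contra hne
        exact hmeet v hv hv1 hvz q (hWQ (mul_mem hy hy')) hne hqv
      exact eq_inv_of_mul_eq_one_right hq1
    -- the element of order five has no fixed point
    have hCV : centralizer (V : Set G) ≤ (S : Subgroup G) ⊔ zpowers x := by
      intro c hc
      obtain ⟨k, hk, t, ht, rfl⟩ := D.cover c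
        (mem_centralizer_singleton_iff.2 (mem_centralizer_iff.1 hc z hzV).symm)
      have htV : t ∈ centralizer (V : Set G) := by
        have hle : (S : Subgroup G) ⊔ zpowers x ≤ centralizer (V : Set G) :=
          sup_le (fun s hs => mem_centralizer_iff.2 fun q hq => Transfer.UnitaryFour.comm_of_cen hq hs)
            (zpowers_le.2 (mem_centralizer_iff.2 fun q hq => (D.xcen q hq).symm))
        exact hle ht
      have hkV : k ∈ centralizer (V : Set G) := by
        have := mul_mem hc (inv_mem htV)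
        rwa [mul_inv_cancel_right] at this
      have hk1 : k = 1 := by
        rcases Transfer.UFLyons.core_linear D hall with ⟨X, hX⟩ | ⟨-, hb, -⟩
        · obtain ⟨hev, htop, hodd⟩ := Invol.isStronglyPEmbedded_iff.1 hX
          exact (M.false_of_stronglyEmbedded ⟨htop, even_iff_two_dvd.2 hev, fun g hg =>
            Nat.not_even_iff_odd.1 fun h => hodd g hg (even_iff_two_dvd.1 h)⟩).elim
        · exact mem_bot.1 (hb ▸ ⟨hk, hkV⟩)
      rwa [hk1, one_mul]
    have hx5 : orderOf x = 5 := by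
      obtain ⟨k, hk⟩ := D.exists_order
      have hx5' : x ^ 5 = 1 := by
        have hxV : x ^ 5 ∈ centralizer (V : Set G) :=
          pow_mem (mem_centralizer_iff.2 fun q hq => (D.xcen q hq).symm) 5
        rcases Transfer.UFLyons.core_linear D hall with ⟨X, hX⟩ | ⟨-, hb, -⟩
        · obtain ⟨hev, htop, hodd⟩ := Invol.isStronglyPEmbedded_iff.1 hX
          exact (M.false_of_stronglyEmbedded ⟨htop, even_iff_two_dvd.2 hev, fun g hg =>
            Nat.not_even_iff_odd.1 fun h => hodd g hg (even_iff_two_dvd.1 h)⟩).elim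
        · exact mem_bot.1 (hb ▸ ⟨D.x5, hxV⟩)
      exact orderOf_eq_prime hx5' fun h => by
        rw [h, orderOf_one] at hk
        exact absurd hk (Nat.one_lt_pow (Nat.succ_ne_zero k) (by norm_num)).ne
    haveI : Fact (Nat.Prime 5) := ⟨by norm_num⟩
    have hTp : Grp.IsSylowIn 5 (zpowers x) ((S : Subgroup G) ⊔ zpowers x) := by
      have h5 : Nat.card ↥(zpowers x) = 5 := by rw [Nat.card_zpowers, hx5]
      refine ⟨le_sup_right, IsPGroup.of_card (n := 1) (by rw [h5, pow_one]), fun h => ?_⟩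
      have h1 := Subgroup.card_mul_index ((zpowers x).subgroupOf ((S : Subgroup G) ⊔ zpowers x))
      rw [Nat.card_congr (Subgroup.subgroupOfEquivOfLe (le_sup_right : zpowers x ≤ _)).toEquiv, h5] at h1
      have h2 : Nat.card ↥((S : Subgroup G) ⊔ zpowers x) ∣ 64 * 5 := by
        have := Grp.card_sup_dvd_mul (H := zpowers x) (N := (S : Subgroup G)) (zpowers_le.2 D.hx)
        rwa [sup_comm, h5, D.card_S, mul_comm] at this
      rw [← h1, mul_comm] at h2
      exact absurd (h.trans (Nat.dvd_of_mul_dvd_mul_right (by norm_num) h2)) (by norm_num)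
    have hxfree : ∀ y ∈ W z, x * y = y * x → y = 1 := by
      intro y hy hxy
      by_contra hy1
      obtain ⟨n, hn, e⟩ := D.fused v hv hv1
      have hn' : MulAut.conj n • zpowers x ≤ (S : Subgroup G) ⊔ zpowers x := by
        rw [← Grp.map_conj_eq_smul, MonoidHom.map_zpowers, zpowers_le]
        refine hCV (mem_centralizer_iff.2 fun q hq => ?_)
        show q * (n * x * n⁻¹) = n * x * n⁻¹ * q
        have hq' := D.xcen _ (hNV n⁻¹ (inv_mem hn) q hq)
        rw [inv_inv] at hq'
        calc q * (n * x * n⁻¹) = n * ((n⁻¹ * q * n) * x) * n⁻¹ := by group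
          _ = n * (x * (n⁻¹ * q * n)) * n⁻¹ := by rw [hq']
          _ = n * x * n⁻¹ * q := by group
      have hconj : Grp.IsSylowIn 5 (MulAut.conj n • zpowers x) ((S : Subgroup G) ⊔ zpowers x) := by
        refine ⟨hn', hTp.2.1.map _, fun h => hTp.2.2 ?_⟩
        have hc : Nat.card ↥(MulAut.conj n • zpowers x : Subgroup G) = Nat.card ↥(zpowers x) := Grp.card_conj_smul _ _
        have h1 := Subgroup.card_mul_index ((MulAut.conj n • zpowers x : Subgroup G).subgroupOf
          ((S : Subgroup G) ⊔ zpowers x))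
        rw [Nat.card_congr (Subgroup.subgroupOfEquivOfLe hn').toEquiv, hc] at h1
        have h2 := Subgroup.card_mul_index ((zpowers x).subgroupOf ((S : Subgroup G) ⊔ zpowers x))
        rw [Nat.card_congr (Subgroup.subgroupOfEquivOfLe (le_sup_right : zpowers x ≤ _)).toEquiv] at h2
        unfold Subgroup.relIndex at h ⊢
        rwa [Nat.eq_of_mul_eq_mul_left Nat.card_pos (h2.trans h1.symm)]
      obtain ⟨k, hk, hke⟩ := hTp.conj hconj
      have hkV : k ∈ centralizer (V : Set G) :=
        (sup_le (fun s hs => mem_centralizer_iff.2 fun q hq => Transfer.UnitaryFour.comm_of_cen hq hs)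
          (zpowers_le.2 (mem_centralizer_iff.2 fun q hq => (D.xcen q hq).symm)) :
            (S : Subgroup G) ⊔ zpowers x ≤ centralizer (V : Set G)) hk
      set s := k⁻¹ * n with hs
      have hsV : MulAut.conj s • V = V := by
        rw [hs, map_mul, mul_smul, hNV' n hn, map_inv, inv_smul_eq_iff]
        ext q
        constructor
        · exact fun hq => ⟨q, hq, by
            show k * q * k⁻¹ = q
            rw [← mem_centralizer_iff.1 hkV q hq, mul_inv_cancel_right]⟩
        · rintro ⟨q', hq', rfl⟩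
          show k * q' * k⁻¹ ∈ V
          rwa [← mem_centralizer_iff.1 hkV q' hq', mul_inv_cancel_right]
      have hsz : s * z * s⁻¹ = v := by
        rw [hs, show k⁻¹ * n * z * (k⁻¹ * n)⁻¹ = k⁻¹ * (n * z * n⁻¹) * k by group, e, mul_assoc,
          mem_centralizer_iff.1 hkV v hv, inv_mul_cancel_left]
      have hsx : MulAut.conj s • zpowers x = zpowers x := by
        rw [hs, map_mul, mul_smul, ← hke, map_inv, inv_smul_smul]
      have hU : centralizer ({x} : Set G) ≠ ⊤ :=
        M.centralizer_ne_top fun h => by rw [h, orderOf_one] at hx5; omega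
      have hVU : V ≤ centralizer ({x} : Set G) := fun q hq => mem_centralizer_singleton_iff.2 (D.xcen q hq).symm
      have hnormy : ∀ q ∈ V, q * y * q⁻¹ ∈ zpowers y := by
        intro q hq
        have hcc : ∀ r ∈ V, ∀ r' ∈ V, r * r' = r' * r := fun r hr r' hr' =>
          Transfer.UnitaryFour.comm_of_cen hr (cen_le hr')
        rcases eq_or_ne q 1 with rfl | hq1
        · rw [one_mul, inv_one, mul_one]
          exact mem_zpowers y
        by_cases hqz : q = z
        · subst hqz
          rw [← mem_centralizer_singleton_iff.1 (piCore_le _ hy), mul_inv_cancel_right]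
          exact mem_zpowers y
        set q' := q * y * q⁻¹ with hq'
        have hyW : q' ∈ W z := piCore_normal (hVz z hzV hq) hy
        by_contra hno
        have hv' : q = v ∨ q = z * v := by
          by_contra hc
          push Not at hc
          have hzv : z * v ∈ V := mul_mem hzV hv
          have h4 : ({1, z, v, z * v, q} : Finset G).card = 5 := by
            have hzv1 : z * v ≠ 1 := fun h => hvz (by
              rw [mul_eq_one_iff_inv_eq] at h
              rw [← h, inv_eq_of_order_two hz2])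
            have hzvz : z * v ≠ z := fun h => hv1 (mul_eq_left.1 h)
            have hzvv : z * v ≠ v := fun h => hz1 (mul_eq_right.1 h)
            simp [Finset.card_insert_of_notMem, Ne.symm hz1, Ne.symm hv1, Ne.symm hzv1, Ne.symm hvz,
              Ne.symm hzvz, Ne.symm hzvv, Ne.symm hq1, Ne.symm hqz, Ne.symm hc.1, Ne.symm hc.2]
          have h5 := Set.ncard_le_ncard (show (({1, z, v, z * v, q} : Finset G) : Set G) ⊆ (V : Set G) by
            intro r hr
            simp only [Finset.coe_insert, Finset.coe_singleton, Set.mem_insert_iff, Set.mem_singleton_iff] at hr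
            rcases hr with rfl | rfl | rfl | rfl | rfl
            exacts [one_mem V, hzV, hv, hzv, hq]) (Set.toFinite _)
          rw [Set.ncard_coe_finset, h4, ← Nat.card_coe_set_eq] at h5
          exact absurd (h5.trans D.card_cen.le) (by norm_num)
        rcases hv' with rfl | rfl
        · exact hno (hq' ▸ hinv y hy ▸ inv_mem (mem_zpowers y))
        · refine hno ?_
          rw [hq', show z * v * y * (z * v)⁻¹ = z * (v * y * v⁻¹) * z⁻¹ by group, hinv y hy,
            ← mem_centralizer_singleton_iff.1 (inv_mem (piCore_le _ hy)), mul_inv_cancel_right]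
          exact inv_mem (mem_zpowers y)
      have hyn : V ≤ normalizer ((zpowers y : Subgroup G) : Set G) := fun q hq =>
        Grp.mem_normalizer_iff_smul.2 (Subgroup.eq_of_le_of_card_ge (by
          rw [← Grp.map_conj_eq_smul, MonoidHom.map_zpowers, zpowers_le]
          exact hnormy q hq) (Grp.card_conj_smul _ _).ge)
      have hyp : IsPGroup p ↥(zpowers y) := hWzp.to_le (zpowers_le.2 hy)
      have hyU : zpowers y ≤ centralizer ({x} : Set G) := zpowers_le.2 (mem_centralizer_singleton_iff.2 hxy.symm)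
      have hsyU : MulAut.conj s • zpowers y ≤ centralizer ({x} : Set G) := by
        rw [← Grp.map_conj_eq_smul, MonoidHom.map_zpowers, zpowers_le]
        have h1 : x ∈ MulAut.conj s • zpowers x := hsx.symm ▸ mem_zpowers x
        obtain ⟨q, hq, hqe⟩ := h1
        obtain ⟨i, rfl⟩ := mem_zpowers_iff.1 hq
        refine mem_centralizer_singleton_iff.2 ?_
        rw [← hqe]
        show s * y * s⁻¹ * (s * x ^ i * s⁻¹) = s * x ^ i * s⁻¹ * (s * y * s⁻¹)
        rw [show s * y * s⁻¹ * (s * x ^ i * s⁻¹) = s * (y * x ^ i) * s⁻¹ by group,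
          ((show Commute x y from hxy).zpow_left i).symm.eq]
        group
      obtain ⟨R, hR, hVR, hyR, hsR⟩ := hjoin _ _ _ hU (hVU.trans le_normalizer) hyU hsyU hyp (hyp.map _) hyn
        (normalizes_conj hyn hsV)
      obtain ⟨Q', hRQ', hQ'⟩ := hge R ⟨hR, hVR⟩
      have hQQ : Q' = Q := huniq Q' Q hQ' hQ fun h => hy1 (mem_bot.1
        (h ▸ ⟨hRQ' (hyR (mem_zpowers y)), hWQ hy⟩))
      have hin : s * y * s⁻¹ ∈ Q := hQQ ▸ hRQ' (hsR ⟨y, mem_zpowers y, rfl⟩)
      refine hmeet v hv hv1 hvz _ hin (fun h => hy1 (conj_eq_one_iff.1 h)) ?_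
      rw [← hsz, ← map_conj_centralizer]
      exact ⟨y, piCore_le _ hy, rfl⟩
    have hle : W z ≤ K := Transfer.UFLyons.odd_le_core D
      (M.odd_piCore (M.centralizer_ne_top hz1)) (piCore_le _) (hWS z hzV)
    have hnormT : ∀ c ∈ (S : Subgroup G) ⊔ zpowers x, ∀ y ∈ W z, c * y * c⁻¹ ∈ W z := fun c hc y hy =>
      piCore_normal (D.T_le hc) hy
    have D' : Transfer.UnitaryCore.Data S z x K (W z) :=
      { D with
        M_le := hle
        M_comm := habz
        M_norm := hnormT
        inverted := ⟨v, hv, hinv⟩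
        x_free := hxfree }
    exact hWz D'.eq_bot

end Min

/-- The remaining case, given the block data. -/
theorem shapeCase_of_data (π : Set ℕ)
    (h : ∀ (X : Type u) [Group X] [Finite X] [IsSimpleGroup X] (S : Sylow 2 X),
      Transfer.UnitaryFour.Shape ↥(S : Subgroup X) → HasData S) : ShapeCase.{u} π :=
  fun X _ _ _ M S hS => M.false_of_data S (h X S hS)

end Cfsg.Agent.Invol.PiTwoClosed
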