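import Cfsg.Agent.Lib.Invol.PiTwoClosed.Reduce
import Cfsg.Agent.Lib.Invol.ZStar
import Cfsg.Agent.Lib.Local.CoreConsumers.Main
import Cfsg.Agent.Lib.Grp.Cores
import Cfsg.Agent.S1221

/-!
# The minimal counterexample: local structure, fusion, no strongly embedded subgroup
-/

set_option autoImplicit false
set_option linter.unusedSectionVars false
set_option linter.style.haveILetI false

namespace Cfsg.Agent.Invol.PiTwoClosed

open Subgroup
open scoped Pointwise

universe u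

/-- A minimal counterexample. -/
structure Min (π : Set ℕ) (X : Type u) [Group X] : Prop where
  two : 2 ∈ π
  nc : ¬ IsMulCommutative X
  closed : Closed π X
  homog : Homog π X
  split : ∀ U : Subgroup X, U ≠ ⊤ → Split π ↥U

/-- The subgroup generated by the `π'`-elements of `U`. -/
def piCore {G : Type u} [Group G] (π : Set ℕ) (U : Subgroup G) : Subgroup G :=
  Subgroup.closure {x | x ∈ U ∧ IsPiEl πᶜ x}

variable {G : Type u} [Group G] [Finite G] {π : Set ℕ}

theorem piCore_le (U : Subgroup G) : piCore π U ≤ U := (Subgroup.closure_le U).2 fun _ hx => hx.1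

theorem subset_piCore {U : Subgroup G} {x : G} (hx : x ∈ U) (h : IsPiEl πᶜ x) : x ∈ piCore π U :=
  Subgroup.subset_closure ⟨hx, h⟩

theorem conj_piCore {U : Subgroup G} {g x : G} (hg : ∀ y ∈ U, g * y * g⁻¹ ∈ U) (hx : x ∈ piCore π U) :
    g * x * g⁻¹ ∈ piCore π U := by
  induction hx using Subgroup.closure_induction with
  | mem y hy => exact subset_piCore (hg y hy.1) (hy.2.conj g)
  | one => rw [mul_one, mul_inv_cancel]; exact one_mem _
  | mul a b _ _ ha hb =>
    rw [show g * (a * b) * g⁻¹ = (g * a * g⁻¹) * (g * b * g⁻¹) by group]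
    exact mul_mem ha hb
  | inv a _ ha =>
    rw [show g * a⁻¹ * g⁻¹ = (g * a * g⁻¹)⁻¹ by group]
    exact inv_mem ha

theorem piCore_normal {U : Subgroup G} {g x : G} (hg : g ∈ U) (hx : x ∈ piCore π U) :
    g * x * g⁻¹ ∈ piCore π U :=
  conj_piCore (fun _ hy => mul_mem (mul_mem hg hy) (inv_mem hg)) hx

namespace Min

section Even

variable (M : Min π G) [IsSimpleGroup G]
include M

theorem not_odd : ¬ Odd (Nat.card G) := fun h => M.nc
  ⟨⟨IsSimpleGroup.comm_iff_isSolvable.2 (Cfsg.Agent.S0205.result h)⟩⟩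

theorem oddCore_eq_bot : Cfsg.oddCore G = ⊥ := by
  refine (Grp.pPrimeCore_isNormal (p := 2) (G := G)).eq_bot_or_eq_top.resolve_right fun e => M.not_odd ?_
  have h := Grp.pPrimeCore_coprime (p := 2) (G := G)
  rw [show Cfsg.pPrimeCore 2 G = ⊤ from e, Subgroup.card_top] at h
  exact Nat.coprime_two_right.1 h

theorem sylow_ne_bot (S : Sylow 2 G) : (S : Subgroup G) ≠ ⊥ := by
  haveI : Fact (Nat.Prime 2) := ⟨Nat.prime_two⟩
  intro h
  refine M.not_odd (Nat.not_even_iff_odd.1 fun he => ?_)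
  exact S.not_dvd_index (by rw [h, Subgroup.index_bot]; exact even_iff_two_dvd.1 he)

theorem not_isPGroup_top : ¬ IsPGroup 2 G := fun h => by
  haveI : Fact (Nat.Prime 2) := ⟨Nat.prime_two⟩
  haveI : Nontrivial G := IsSimpleGroup.toNontrivial
  have hz := h.center_nontrivial
  rcases (inferInstance : (center G).Normal).eq_bot_or_eq_top with e | e
  · exact ((Subgroup.nontrivial_iff_ne_bot _).1 hz) e
  · exact M.nc ⟨⟨fun a b => (mem_center_iff.1 (e ▸ mem_top a) b).symm⟩⟩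

theorem ne_top_of_normalized {H U : Subgroup G} (hH : H ≠ ⊥) (hH' : H ≠ ⊤)
    (hU : U ≤ normalizer (H : Set G)) : U ≠ ⊤ := fun e => by
  rcases (normalizer_eq_top_iff.1 (top_unique (e ▸ hU))).eq_bot_or_eq_top with h | h
  · exact hH h
  · exact hH' h

theorem normalizer_ne_top {D : Subgroup G} (hD : D ≠ ⊥) (hDp : IsPGroup 2 D) :
    normalizer (D : Set G) ≠ ⊤ :=
  M.ne_top_of_normalized hD (fun e => M.not_isPGroup_top (IsPGroup.of_equiv (e ▸ hDp) topEquiv)) le_rfl

theorem centralizer_ne_top {x : G} (hx : x ≠ 1) : centralizer ({x} : Set G) ≠ ⊤ := fun h => by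
  have hc : x ∈ center G := mem_center_iff.2 fun g =>
    mem_centralizer_singleton_iff.1 (h ▸ mem_top g)
  rcases (inferInstance : (center G).Normal).eq_bot_or_eq_top with e | e
  · exact hx (mem_bot.1 (e ▸ hc))
  · exact M.nc ⟨⟨fun a b => (mem_center_iff.1 (e ▸ mem_top a) b).symm⟩⟩

end Even

variable (M : Min π G)
include M

theorem mem_piCore {U : Subgroup G} (hU : U ≠ ⊤) {x : G} : x ∈ piCore π U ↔ x ∈ U ∧ IsPiEl πᶜ x := by
  refine ⟨fun hx => ⟨piCore_le U hx, ?_⟩, fun h => subset_piCore h.1 h.2⟩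
  obtain ⟨K, hK⟩ := M.split U hU
  have hle : piCore π U ≤ K.map U.subtype := (Subgroup.closure_le _).2 fun y hy =>
    ⟨⟨y, hy.1⟩, (hK _).2 ((isPiEl_map_iff U.subtype_injective).1 hy.2), rfl⟩
  obtain ⟨k, hk, rfl⟩ := hle hx
  exact ((hK k).1 hk).map U.subtype

theorem piGroup_piCore {U : Subgroup G} (hU : U ≠ ⊤) : PiGroup πᶜ (piCore π U) :=
  piGroup_of_forall fun _ hx => ((M.mem_piCore hU).1 hx).2

theorem odd_piCore {U : Subgroup G} (hU : U ≠ ⊤) : Odd (Nat.card ↥(piCore π U)) :=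
  (M.piGroup_piCore hU).odd M.two

theorem piGroup_of_piCore_eq_bot {U : Subgroup G} (h : piCore π U = ⊥) : PiGroup π U :=
  piGroup_of_no_piEl fun x hx hxp => mem_bot.1 (h ▸ subset_piCore hx hxp)

theorem piGroup_two {D : Subgroup G} (hD : IsPGroup 2 D) : PiGroup π D :=
  haveI : Fact (Nat.Prime 2) := ⟨Nat.prime_two⟩
  piGroup_of_isPGroup M.two hD

/-- A `π'`-element normalizing a 2-subgroup centralizes it. -/
theorem centralizes_two {D : Subgroup G} (hD : IsPGroup 2 D) {k : G} (hk : IsPiEl πᶜ k)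
    (hkn : k ∈ normalizer (D : Set G)) : k ∈ centralizer (D : Set G) :=
  M.homog D (M.piGroup_two hD) k hk hkn

/-- In a proper subgroup every 2-subgroup lies, up to conjugation by the core, in a given maximal one. -/
theorem exists_sylow_in {U Q : Subgroup G} (hU : U ≠ ⊤) (hQ : IsPGroup 2 Q) (hQU : Q ≤ U) :
    ∃ P : Subgroup G, P ≤ U ∧ IsPGroup 2 P ∧ Q ≤ P ∧
      ∀ R : Subgroup G, IsPGroup 2 R → R ≤ U → ∃ k ∈ piCore π U, R ≤ MulAut.conj k • P := by
  haveI : Fact (Nat.Prime 2) := ⟨Nat.prime_two⟩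
  set N : Subgroup ↥U := (piCore π U).subgroupOf U with hN
  haveI : N.Normal := ⟨fun x hx g => mem_subgroupOf.2 (piCore_normal g.2 (mem_subgroupOf.1 hx))⟩
  set f := QuotientGroup.mk' N
  have hfs : Function.Surjective f := QuotientGroup.mk'_surjective N
  have hkf : PiGroup πᶜ f.ker := by
    rw [QuotientGroup.ker_mk']
    exact piGroup_of_forall fun x hx =>
      (isPiEl_map_iff U.subtype_injective).1 ((M.mem_piCore hU).1 (mem_subgroupOf.1 hx)).2
  have hc := closed_of_piPrime_ker f hfs hkf (M.closed.of_injective U.subtype_injective)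
  have htop : TwoClosed (⊤ : Subgroup (↥U ⧸ N)) := hc ⊤ (piGroup_of_no_piEl fun q _ hq => by
    obtain ⟨x, rfl⟩ := hfs q
    exact (QuotientGroup.eq_one_iff x).2 (mem_subgroupOf.2
      (subset_piCore x.2 ((isPiEl_of_image f hkf hq).map U.subtype))))
  obtain ⟨P', hP'⟩ := (hQ.comap_of_injective U.subtype U.subtype_injective).exists_le_sylow
  refine ⟨(P' : Subgroup ↥U).map U.subtype, map_subtype_le _, P'.2.map _,
    fun q hq => ⟨⟨q, hQU hq⟩, hP' hq, rfl⟩, fun R hR hRU => ?_⟩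
  let T := P'.mapSurjective hfs
  have hTeq : htop.twoPart = (T : Subgroup (↥U ⧸ N)) :=
    T.3 htop.isPGroup_twoPart fun x hx => htop.mem_twoPart.2 ⟨mem_top x, twoEl_of_isPGroup T.2 hx⟩
  set W : Subgroup ↥U := N ⊔ (P' : Subgroup ↥U) with hW
  have hP'W : (P' : Subgroup ↥U) ≤ W := le_sup_right
  set R' : Subgroup ↥U := R.subgroupOf U
  have hR'p : IsPGroup 2 R' := hR.comap_of_injective U.subtype U.subtype_injective
  have hR'W : R' ≤ W := by
    intro r hr
    have h1 : f r ∈ (T : Subgroup (↥U ⧸ N)) := by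
      rw [← hTeq]
      exact htop.mem_twoPart.2 ⟨mem_top _, (twoEl_of_isPGroup hR'p hr).map f⟩
    obtain ⟨p, hp, he⟩ := h1
    rw [show r = (r * p⁻¹) * p by group]
    refine mul_mem_sup ?_ hp
    rw [← QuotientGroup.ker_mk' N, MonoidHom.mem_ker, map_mul, map_inv]
    exact mul_inv_eq_one.2 he.symm
  obtain ⟨T2, hT2⟩ := (hR'p.comap_of_injective W.subtype W.subtype_injective).exists_le_sylow
  obtain ⟨w, hw⟩ := MulAction.exists_smul_eq ↥W (P'.subtype hP'W) T2
  obtain ⟨k, hk, p, hp, hkp⟩ := Subgroup.mem_sup_of_normal_left.1 w.2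
  refine ⟨k, mem_subgroupOf.1 hk, fun x hx => ?_⟩
  have hxU : x ∈ U := hRU hx
  have hxT : (⟨⟨x, hxU⟩, hR'W (show (⟨x, hxU⟩ : ↥U) ∈ R' from hx)⟩ : ↥W) ∈ (T2 : Subgroup ↥W) :=
    hT2 (show _ ∈ R' from hx)
  rw [← hw, Sylow.coe_subgroup_smul] at hxT
  obtain ⟨q, hq, he⟩ := hxT
  have he' : ((w : ↥U) : G) * ((q : ↥U) : G) * ((w : ↥U) : G)⁻¹ = x :=
    congrArg (fun y : ↥W => ((y : ↥U) : G)) he
  refine ⟨(p : G) * ((q : ↥U) : G) * (p : G)⁻¹,
    ⟨p * (q : ↥U) * p⁻¹, mul_mem (mul_mem hp (mem_subgroupOf.1 hq)) (inv_mem hp), rfl⟩, ?_⟩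
  show (k : G) * ((p : G) * ((q : ↥U) : G) * (p : G)⁻¹) * (k : G)⁻¹ = x
  rw [← he', show ((w : ↥U) : G) = (k : G) * (p : G) by rw [← hkp]; rfl]
  group

/-- A proper part of a 2-subgroup grows in its normalizer. -/
theorem lt_inf_normalizer {S D : Subgroup G} (hS : IsPGroup 2 S) (hD : D < S) :
    D < S ⊓ normalizer (D : Set G) := by
  haveI : Fact (Nat.Prime 2) := ⟨Nat.prime_two⟩
  have hlt : D.subgroupOf S < ⊤ := lt_top_iff_ne_top.2 fun h => hD.not_ge (subgroupOf_eq_top.1 h)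
  haveI : Group.IsNilpotent ↥S := hS.isNilpotent
  obtain ⟨x, hxn, hxD⟩ := SetLike.exists_of_lt (normalizerCondition_of_isNilpotent _ hlt)
  refine lt_of_le_of_ne (le_inf hD.le le_normalizer) fun h => hxD (mem_subgroupOf.2 ?_)
  rw [h]
  refine ⟨x.2, mem_normalizer_iff.2 fun y => ⟨fun hy => ?_, fun hy => ?_⟩⟩
  · exact mem_subgroupOf.1 ((mem_normalizer_iff.1 hxn ⟨y, hD.le hy⟩).1 hy)
  · have hyS : y ∈ S := by
      have := mul_mem (mul_mem (inv_mem x.2) (hD.le hy)) x.2
      rwa [show (x : G)⁻¹ * ((x : G) * y * (x : G)⁻¹) * x = y by group] at this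
    exact mem_subgroupOf.1 ((mem_normalizer_iff.1 hxn ⟨y, hyS⟩).2 hy)

variable [IsSimpleGroup G]

/-- Sylow 2-subgroups meeting nontrivially are conjugate in the centralizer of their intersection. -/
theorem conj_of_meet (S T : Sylow 2 G) (h : (S : Subgroup G) ⊓ T ≠ ⊥) :
    ∃ c ∈ centralizer (((S : Subgroup G) ⊓ T : Subgroup G) : Set G), c • S = T := by
  haveI : Fact (Nat.Prime 2) := ⟨Nat.prime_two⟩
  induction hn : Nat.card G - Nat.card ↥((S : Subgroup G) ⊓ T) using Nat.strong_induction_on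
    generalizing S T with
  | _ n ih =>
  rcases eq_or_ne S T with rfl | hne
  · exact ⟨1, one_mem _, one_smul _ _⟩
  set D := (S : Subgroup G) ⊓ T with hD
  have hDS : D < (S : Subgroup G) := lt_of_le_of_ne inf_le_left fun e =>
    hne (Sylow.ext (S.3 T.2 (inf_eq_left.1 e)).symm)
  have hDT : D < (T : Subgroup G) := lt_of_le_of_ne inf_le_right fun e =>
    hne (Sylow.ext (T.3 S.2 (inf_eq_right.1 e)))
  have hDp : IsPGroup 2 D := S.2.to_le inf_le_left
  have hU := M.normalizer_ne_top h hDp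
  obtain ⟨P, hPU, hPp, hRP, hall⟩ :=
    M.exists_sylow_in hU (S.2.to_le inf_le_left) (inf_le_right : (S : Subgroup G) ⊓ normalizer (D : Set G) ≤ _)
  obtain ⟨S', hS'⟩ := hPp.exists_le_sylow
  obtain ⟨k, hk, hR2⟩ := hall _ (T.2.to_le inf_le_left) (inf_le_right : (T : Subgroup G) ⊓ normalizer (D : Set G) ≤ _)
  have hR2' : (T : Subgroup G) ⊓ normalizer (D : Set G) ≤ ((k • S' : Sylow 2 G) : Subgroup G) := by
    rw [Sylow.coe_subgroup_smul]
    exact hR2.trans (Subgroup.pointwise_smul_le_pointwise_smul_iff.2 hS')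
  have h1 : D < (S : Subgroup G) ⊓ S' :=
    (M.lt_inf_normalizer S.2 hDS).trans_le (le_inf inf_le_left (hRP.trans hS'))
  have h2 : D < ((k • S' : Sylow 2 G) : Subgroup G) ⊓ T :=
    (M.lt_inf_normalizer T.2 hDT).trans_le (le_inf hR2' inf_le_left)
  have hmeas : ∀ A B : Sylow 2 G, D < (A : Subgroup G) ⊓ B →
      Nat.card G - Nat.card ↥((A : Subgroup G) ⊓ B) < n ∧ (A : Subgroup G) ⊓ B ≠ ⊥ := fun A B hAB => by
    refine ⟨?_, ne_bot_of_gt hAB⟩
    have h3 : Nat.card ↥D < Nat.card ↥((A : Subgroup G) ⊓ B) :=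
      Set.Finite.card_lt_card (Set.toFinite _) (SetLike.coe_ssubset_coe.2 hAB)
    have h4 := Subgroup.card_le_card_group ((A : Subgroup G) ⊓ B)
    omega
  obtain ⟨c1, hc1, e1⟩ := ih _ (hmeas _ _ h1).1 S S' (hmeas _ _ h1).2 rfl
  obtain ⟨c2, hc2, e2⟩ := ih _ (hmeas _ _ h2).1 (k • S') T (hmeas _ _ h2).2 rfl
  refine ⟨c2 * k * c1, mul_mem (mul_mem (centralizer_le h2.le hc2) ?_) (centralizer_le h1.le hc1), ?_⟩
  · exact M.centralizes_two hDp ((M.mem_piCore hU).1 hk).2 (piCore_le _ hk)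
  · rw [mul_smul, mul_smul, e1, e2]

/-- Sylow 2-subgroups containing a nontrivial `Q` are conjugate in the centralizer of `Q`. -/
theorem conj_of_le {Q : Subgroup G} (hQ : Q ≠ ⊥) (S T : Sylow 2 G) (hS : Q ≤ (S : Subgroup G))
    (hT : Q ≤ (T : Subgroup G)) : ∃ c ∈ centralizer (Q : Set G), c • S = T := by
  obtain ⟨c, hc, e⟩ := M.conj_of_meet S T fun h => hQ (le_bot_iff.1 (h ▸ le_inf hS hT))
  exact ⟨c, centralizer_le (le_inf hS hT : Q ≤ _) hc, e⟩

theorem mem_normalizer_of_smul {S : Sylow 2 G} {g : G} (h : g • S = S) :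
    g ∈ normalizer ((S : Subgroup G) : Set G) := Sylow.smul_eq_iff_mem_normalizer.1 h

/-- The normalizer of a Sylow 2-subgroup controls fusion in it. -/
theorem fusion (S : Sylow 2 G) {x g : G} (hx : x ∈ (S : Subgroup G)) (hx1 : x ≠ 1)
    (hg : g * x * g⁻¹ ∈ (S : Subgroup G)) :
    ∃ n ∈ normalizer ((S : Subgroup G) : Set G), n * x * n⁻¹ = g * x * g⁻¹ := by
  have hxT : zpowers x ≤ ((g⁻¹ • S : Sylow 2 G) : Subgroup G) := zpowers_le.2 (by
    rw [Sylow.coe_subgroup_smul]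
    exact ⟨g * x * g⁻¹, hg, by show g⁻¹ * (g * x * g⁻¹) * g⁻¹⁻¹ = x; group⟩)
  obtain ⟨c, hc, e⟩ := M.conj_of_le (fun h => hx1 (zpowers_eq_bot.1 h)) S _ (zpowers_le.2 hx) hxT
  refine ⟨g * c, M.mem_normalizer_of_smul (by rw [mul_smul, e, smul_inv_smul]), ?_⟩
  rw [show g * c * x * (g * c)⁻¹ = g * (c * x * c⁻¹) * g⁻¹ by group,
    ← mem_centralizer_iff.1 hc x (mem_zpowers x), mul_inv_cancel_right]

/-- No central involution of a Sylow 2-subgroup is fixed by its normalizer. -/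
theorem exists_mover (S : Sylow 2 G) {z : G} (hz : z ∈ (S : Subgroup G)) (hz2 : orderOf z = 2) :
    ∃ n ∈ normalizer ((S : Subgroup G) : Set G), n * z * n⁻¹ ≠ z := by
  by_contra hno
  push Not at hno
  have hiso : Cfsg.IsIsolatedInvolution z := ZStar.isIsolated_of_sylow hz hz2 fun g hg => by
    obtain ⟨n, hn, e⟩ := M.fusion S hz (fun h => by rw [h, orderOf_one] at hz2; omega) hg
    rw [← e, hno n hn]
  obtain ⟨N, hN, hodd, hc⟩ := ZStar.exists_odd_normal hiso
  rcases hN.eq_bot_or_eq_top with e | e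
  · refine M.centralizer_ne_top (fun h => by rw [h, orderOf_one] at hz2; omega : z ≠ 1) (eq_top_iff.2 fun g _ => ?_)
    have h1 := hc g
    rw [e, mem_bot, mul_inv_eq_one, mul_inv_eq_iff_eq_mul] at h1
    exact mem_centralizer_singleton_iff.2 h1.symm
  · rw [e, Subgroup.card_top] at hodd
    exact M.not_odd hodd

/-- Two distinct central involutions. -/
theorem exists_central_pair (S : Sylow 2 G) : ∃ z ∈ (S : Subgroup G), ∃ w ∈ (S : Subgroup G),
    z ≠ w ∧ orderOf z = 2 ∧ orderOf w = 2 ∧ ∀ x ∈ (S : Subgroup G), Commute z x ∧ Commute w x := by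
  obtain ⟨z, hz, hz2, hzc⟩ := CoreConsumers.exists_central_involution S.2 (M.sylow_ne_bot S)
  obtain ⟨n, hn, hne⟩ := M.exists_mover S hz hz2
  refine ⟨z, hz, _, (mem_normalizer_iff.1 hn z).1 hz, fun h => hne h.symm, hz2, by rw [orderOf_conj_eq, hz2],
    fun x hx => ⟨hzc x hx, ?_⟩⟩
  have h1 := hzc _ ((mem_normalizer_iff.1 (inv_mem hn) x).1 hx)
  rw [inv_inv] at h1
  have := h1.map (MulAut.conj n).toMonoidHom
  simpa [MulAut.conj_apply, mul_assoc] using this

/-- The central four-group. -/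
theorem exists_central_four (S : Sylow 2 G) : ∃ E : Subgroup G, E ≤ (S : Subgroup G) ∧
    Cfsg.IsElementaryAbelian 2 E ∧ 4 ≤ Nat.card ↥E ∧
      ∀ x ∈ (S : Subgroup G), ∀ e ∈ E, Commute e x := by
  obtain ⟨z, hz, w, hw, hne, hz2, hw2, hc⟩ := M.exists_central_pair S
  let E : Subgroup G :=
    { carrier := {e | e ∈ (S : Subgroup G) ∧ e ^ 2 = 1 ∧ ∀ x ∈ (S : Subgroup G), Commute e x}
      one_mem' := ⟨one_mem _, one_pow 2, fun x _ => Commute.one_left x⟩
      mul_mem' := fun ⟨ha, ha2, hac⟩ ⟨hb, hb2, hbc⟩ => ⟨mul_mem ha hb, by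
        rw [(hac _ hb).mul_pow, ha2, hb2, one_mul], fun x hx => (hac x hx).mul_left (hbc x hx)⟩
      inv_mem' := fun ⟨ha, ha2, hac⟩ => ⟨inv_mem ha, by rw [inv_pow, ha2, inv_one],
        fun x hx => (hac x hx).inv_left⟩ }
  have hzE : z ∈ E := ⟨hz, by rw [← hz2, pow_orderOf_eq_one], fun x hx => (hc x hx).1⟩
  have hwE : w ∈ E := ⟨hw, by rw [← hw2, pow_orderOf_eq_one], fun x hx => (hc x hx).2⟩
  refine ⟨E, fun e he => he.1, ⟨⟨⟨fun a b => Subtype.ext (a.2.2.2 b b.2.1).eq⟩⟩, fun a ha => ha.2.1⟩, ?_,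
    fun x hx e he => he.2.2 x hx⟩
  obtain ⟨k, hk⟩ := IsPGroup.iff_card.1 (S.2.to_le (fun e he => he.1 : E ≤ (S : Subgroup G)))
  have h3 : 2 < Nat.card ↥E := by
    have : ({1, z, w} : Set G) ⊆ (E : Set G) := by
      rintro x (rfl | rfl | rfl)
      exacts [one_mem E, hzE, hwE]
    have h4 := Nat.card_mono (Set.toFinite _) this
    rw [Nat.card_coe_set_eq, Set.ncard_eq_three.2 ⟨1, z, w,
      fun h => by rw [← h, orderOf_one] at hz2; omega,
      fun h => by rw [← h, orderOf_one] at hw2; omega, hne, rfl⟩] at h4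
    exact lt_of_lt_of_le (by norm_num) h4
  rw [hk] at h3 ⊢
  have h5 : 2 ^ 1 < 2 ^ k := by simpa using h3
  calc 4 = 2 ^ 2 := rfl
    _ ≤ 2 ^ k := Nat.pow_le_pow_right two_pos ((Nat.pow_lt_pow_iff_right one_lt_two).1 h5)

/-- There is no strongly embedded subgroup. -/
theorem false_of_stronglyEmbedded {X : Subgroup G} (hX : Cfsg.IsStronglyEmbedded X) : False := by
  haveI : Fact (Nat.Prime 2) := ⟨Nat.prime_two⟩
  classical
  obtain ⟨htop, hev, hodd⟩ := hX
  have hcore : piCore π X = ⊥ := by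
    haveI : ((piCore π X).subgroupOf X).Normal :=
      ⟨fun x hx g => mem_subgroupOf.2 (piCore_normal g.2 (mem_subgroupOf.1 hx))⟩
    have h1 : (piCore π X).subgroupOf X ≤ Cfsg.oddCore ↥X := Grp.le_pPrimeCore inferInstance (by
      rw [Nat.card_congr (Subgroup.subgroupOfEquivOfLe (piCore_le X)).toEquiv]
      exact Nat.coprime_two_right.2 (M.odd_piCore htop))
    have h2 := (Subgroup.map_mono (f := X.subtype) h1).trans (Cfsg.Agent.S1221.result X ⟨htop, hev, hodd⟩)
    rwa [M.oddCore_eq_bot, subgroupOf_map_subtype, inf_eq_left.2 (piCore_le X), le_bot_iff] at h2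
  have hXp := M.piGroup_of_piCore_eq_bot hcore
  -- two involutions in `X`
  obtain ⟨t₀, ht₀⟩ := exists_prime_orderOf_dvd_card' (G := ↥X) 2 (even_iff_two_dvd.1 hev)
  rw [← Subgroup.orderOf_coe] at ht₀
  have htwo : ∃ i ∈ X, ∃ j ∈ X, i ≠ j ∧ orderOf i = 2 ∧ orderOf j = 2 := by
    by_contra hno
    push Not at hno
    have huniq : ∀ j ∈ X, orderOf j = 2 → j = (t₀ : G) := fun j hj hj2 => by
      by_contra hne
      exact hno j hj t₀ t₀.2 hne hj2 ht₀
    have hC : centralizer ({(t₀ : G)} : Set G) ≤ X := fun g hg => by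
      by_contra hgX
      refine Nat.not_even_iff_odd.2 (hodd g hgX) (even_iff_two_dvd.2 ?_)
      have hmem : (t₀ : G) ∈ X ⊓ X.map (MulAut.conj g).toMonoidHom := ⟨t₀.2, t₀, t₀.2, by
        show g * (t₀ : G) * g⁻¹ = t₀
        rw [mem_centralizer_singleton_iff.1 hg, mul_inv_cancel_right]⟩
      have := Subgroup.orderOf_dvd_natCard _ hmem
      rwa [ht₀] at this
    obtain ⟨T, hT⟩ := (IsPGroup.of_card (p := 2) (n := 1)
      (show Nat.card ↥(zpowers (t₀ : G)) = 2 ^ 1 by rw [Nat.card_zpowers, ht₀, pow_one])).exists_le_sylow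
    obtain ⟨z, hz, w, hw, hne, hz2, hw2, hc⟩ := M.exists_central_pair T
    have hz' := huniq z (hC (mem_centralizer_singleton_iff.2 ((hc _ (hT (mem_zpowers _))).1).eq)) hz2
    have hw' := huniq w (hC (mem_centralizer_singleton_iff.2 ((hc _ (hT (mem_zpowers _))).2).eq)) hw2
    exact hne (hz'.trans hw'.symm)
  -- counting
  let J := {i : G // i ∈ X ∧ orderOf i = 2}
  let I := {i : G // orderOf i = 2}
  let φ : (G ⧸ X) × J → I := fun q => ⟨q.1.out * (q.2 : G) * q.1.out⁻¹, by rw [orderOf_conj_eq]; exact q.2.2.2⟩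
  have hinj : Function.Injective φ := by
    rintro ⟨q, i⟩ ⟨q', i'⟩ h
    have he : q.out * (i : G) * q.out⁻¹ = q'.out * (i' : G) * q'.out⁻¹ := congrArg Subtype.val h
    have hmem : q'.out⁻¹ * q.out ∈ X := by
      by_contra hgX
      refine Nat.not_even_iff_odd.2 (hodd _ hgX) (even_iff_two_dvd.2 ?_)
      have hm : (i' : G) ∈ X ⊓ X.map (MulAut.conj (q'.out⁻¹ * q.out)).toMonoidHom := ⟨i'.2.1, i, i.2.1, by
        show q'.out⁻¹ * q.out * (i : G) * (q'.out⁻¹ * q.out)⁻¹ = i'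
        rw [show q'.out⁻¹ * q.out * (i : G) * (q'.out⁻¹ * q.out)⁻¹
          = q'.out⁻¹ * (q.out * (i : G) * q.out⁻¹) * q'.out by group, he]
        group⟩
      have := Subgroup.orderOf_dvd_natCard _ hm
      rwa [i'.2.2] at this
    have hqq : q' = q := by
      rw [← QuotientGroup.out_eq' q, ← QuotientGroup.out_eq' q']
      exact QuotientGroup.eq.2 hmem
    subst hqq
    exact Prod.ext rfl (Subtype.ext (mul_left_cancel (mul_right_cancel he)))
  let O := {i : G // i ∉ X ∧ orderOf i = 2}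
  have hI : Nat.card I = Nat.card J + Nat.card O := by
    rw [← Nat.card_sum]
    let e : I → J ⊕ O := fun i : I =>
      if h : i.1 ∈ X then Sum.inl ⟨i.1, h, i.2⟩ else Sum.inr ⟨i.1, h, i.2⟩
    refine Nat.card_congr (Equiv.ofBijective e ⟨fun i j h => ?_, fun w => ?_⟩)
    · simp only [e] at h
      split_ifs at h
      · injection h with h'; exact Subtype.ext (congrArg Subtype.val h' :)
      · injection h with h'; exact Subtype.ext (congrArg Subtype.val h' :)
    · rcases w with ⟨i, h, h'⟩ | ⟨i, h, h'⟩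
      · exact ⟨⟨i, h'⟩, dif_pos h⟩
      · exact ⟨⟨i, h'⟩, dif_neg h⟩
  have h1 := Nat.card_le_card_of_injective φ hinj
  rw [Nat.card_prod, hI] at h1
  have hJ : 2 ≤ Nat.card J := by
    obtain ⟨i, hi, j, hj, hne, hi2, hj2⟩ := htwo
    haveI : Nontrivial J := ⟨⟨⟨i, hi, hi2⟩, ⟨j, hj, hj2⟩, fun e => hne (congrArg Subtype.val e)⟩⟩
    exact Finite.one_lt_card
  have hindex : 2 ≤ Nat.card (G ⧸ X) := by
    rw [← Subgroup.index_eq_card]
    have := Subgroup.one_lt_index_of_ne_top htop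
    omega
  let ψ : O → {q : G ⧸ X // q ≠ QuotientGroup.mk 1} := fun i => ⟨QuotientGroup.mk (i : G), fun e =>
    i.2.1 (by simpa using inv_mem (QuotientGroup.eq.1 e))⟩
  have hψ : ¬ Function.Injective ψ := fun hi => by
    have h2 := Nat.card_le_card_of_injective ψ hi
    have h3 : Nat.card {q : G ⧸ X // q ≠ QuotientGroup.mk 1} + 1 = Nat.card (G ⧸ X) := by
      haveI := Fintype.ofFinite (G ⧸ X)
      rw [Nat.card_eq_fintype_card, Nat.card_eq_fintype_card, Fintype.card_subtype_compl,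
        Fintype.card_subtype_eq]
      have := Fintype.card_pos (α := G ⧸ X)
      omega
    nlinarith
  obtain ⟨s, s', he, hne⟩ := Function.not_injective_iff.1 hψ
  have hd : (s : G)⁻¹ * s' ∈ X := QuotientGroup.eq.1 (congrArg Subtype.val he)
  rw [inv_eq_of_order_two s.2.2] at hd
  set d := (s : G) * s' with hdd
  have hs2 : orderOf (s : G) = 2 := s.2.2
  have hss : (s : G) * s = 1 := (pow_two (s : G)).symm.trans (orderOf_dvd_iff_pow_eq_one.1 (dvd_of_eq hs2))
  have hss' : (s' : G) * s' = 1 :=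
    (pow_two (s' : G)).symm.trans (orderOf_dvd_iff_pow_eq_one.1 (dvd_of_eq s'.2.2))
  have hinv : (s : G) * d * (s : G)⁻¹ = d⁻¹ := by
    rw [inv_eq_of_order_two s.2.2, hdd, mul_inv_rev, inv_eq_of_order_two s.2.2, inv_eq_of_order_two s'.2.2,
      ← mul_assoc, hss, one_mul]
  have hdodd : Odd (orderOf d) := by
    refine Odd.of_dvd_nat (hodd _ s.2.1) (Subgroup.orderOf_dvd_natCard _ ⟨hd, d⁻¹, inv_mem hd, ?_⟩)
    show (s : G) * d⁻¹ * (s : G)⁻¹ = d
    rw [← hinv, show (s : G) * ((s : G) * d * (s : G)⁻¹) * (s : G)⁻¹ = ((s : G) * s) * d * ((s : G) * s)⁻¹ by group,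
      hss, one_mul, inv_one, mul_one]
  -- the dihedral group
  set H := zpowers d ⊔ zpowers (s : G) with hH
  have hnorm : zpowers (s : G) ≤ normalizer ((zpowers d : Subgroup G) : Set G) := zpowers_le.2 (by
    refine Grp.mem_normalizer_iff_smul.2 ?_
    rw [← Grp.map_conj_eq_smul, MonoidHom.map_zpowers]
    show zpowers ((s : G) * d * (s : G)⁻¹) = zpowers d
    rw [hinv, zpowers_inv])
  have hHp : PiGroup π H := by
    intro p hp hpd
    have h2 : Nat.card ↥H ∣ Nat.card ↥(zpowers d) * Nat.card ↥(zpowers (s : G)) := by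
      rw [hH, sup_comm, mul_comm]
      exact Grp.card_sup_dvd_mul hnorm
    rcases hp.dvd_mul.1 (hpd.trans h2) with h | h
    · exact hXp p hp (h.trans (Subgroup.card_dvd_of_le (zpowers_le.2 hd)))
    · rw [Nat.card_zpowers, s.2.2] at h
      exact ((Nat.prime_dvd_prime_iff_eq hp Nat.prime_two).1 h) ▸ M.two
  have hd1 := (M.closed H hHp).eq_one_of_inverted (mem_sup_right (mem_zpowers (s : G)))
    (mem_sup_left (mem_zpowers d)) s.2.2 hdodd hinv
  refine hne (Subtype.ext ?_)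
  rw [hdd, mul_eq_one_iff_eq_inv, inv_eq_of_order_two s'.2.2] at hd1
  exact hd1

/-- If all centralizers of involutions have trivial cores, contradiction. -/
theorem false_of_cores (hK : ∀ t : G, orderOf t = 2 → piCore π (centralizer ({t} : Set G)) = ⊥) : False := by
  haveI : Fact (Nat.Prime 2) := ⟨Nat.prime_two⟩
  have hTI : ∀ S T : Sylow 2 G, (S : Subgroup G) ⊓ T ≠ ⊥ → S = T := by
    intro S T h
    induction hn : Nat.card G - Nat.card ↥((S : Subgroup G) ⊓ T) using Nat.strong_induction_on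
      generalizing S T with
    | _ n ih =>
    by_contra hne
    set D := (S : Subgroup G) ⊓ T with hD
    have hDS : D < (S : Subgroup G) := lt_of_le_of_ne inf_le_left fun e =>
      hne (Sylow.ext (S.3 T.2 (inf_eq_left.1 e)).symm)
    have hDT : D < (T : Subgroup G) := lt_of_le_of_ne inf_le_right fun e =>
      hne (Sylow.ext (T.3 S.2 (inf_eq_right.1 e)))
    have hDp : IsPGroup 2 D := S.2.to_le inf_le_left
    have hU := M.normalizer_ne_top h hDp
    obtain ⟨i, hiD, hi, -⟩ := CoreConsumers.exists_central_involution hDp h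
    have hUpi : PiGroup π (normalizer (D : Set G)) := piGroup_of_no_piEl fun x hx hxp => by
      have h1 : x ∈ piCore π (centralizer ({i} : Set G)) := subset_piCore
        (mem_centralizer_singleton_iff.2 (mem_centralizer_iff.1 (M.centralizes_two hDp hxp hx) i hiD).symm) hxp
      rwa [hK i hi, mem_bot] at h1
    have hc := M.closed _ hUpi
    obtain ⟨S', hS'⟩ := hc.isPGroup_twoPart.exists_le_sylow
    have key : ∀ R : Sylow 2 G, D < (R : Subgroup G) → (R : Subgroup G) ⊓ normalizer (D : Set G) ≤ S' ∧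
        D < (R : Subgroup G) ⊓ S' := fun R hR => by
      have hle : (R : Subgroup G) ⊓ normalizer (D : Set G) ≤ S' := fun x hx =>
        hS' (hc.mem_twoPart.2 ⟨hx.2, twoEl_of_isPGroup R.2 hx.1⟩)
      exact ⟨hle, (M.lt_inf_normalizer R.2 hR).trans_le (le_inf inf_le_left hle)⟩
    have meas : ∀ R : Sylow 2 G, D < (R : Subgroup G) ⊓ S' → R = S' := fun R hR => by
      refine ih _ ?_ R S' (ne_bot_of_gt hR) rfl
      have h3 : Nat.card ↥D < Nat.card ↥((R : Subgroup G) ⊓ S') :=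
        Set.Finite.card_lt_card (Set.toFinite _) (SetLike.coe_ssubset_coe.2 hR)
      have h4 := Subgroup.card_le_card_group ((R : Subgroup G) ⊓ S')
      omega
    exact hne ((meas S (key S hDS).2).trans (meas T (key T hDT).2).symm)
  obtain ⟨S⟩ : Nonempty (Sylow 2 G) := inferInstance
  refine M.false_of_stronglyEmbedded (CoreConsumers.isStronglyEmbedded_of_centralizers
    (M.normalizer_ne_top (M.sylow_ne_bot S) S.2) S le_rfl (M.sylow_ne_bot S) fun t ht ht2 g hg => ?_)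
  have hmem : t ∈ (S : Subgroup G) ⊓ ((g • S : Sylow 2 G) : Subgroup G) := ⟨ht, by
    rw [Sylow.coe_subgroup_smul]
    exact ⟨t, ht, by
      show g * t * g⁻¹ = t
      rw [mem_centralizer_singleton_iff.1 hg, mul_inv_cancel_right]⟩⟩
  refine M.mem_normalizer_of_smul (hTI S (g • S) fun e => ?_).symm
  rw [e, mem_bot] at hmem
  rw [hmem, orderOf_one] at ht2
  omega

end Min

end Cfsg.Agent.Invol.PiTwoClosed
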