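import Cfsg.Agent.Lib.Invol.PiTwoClosed.Reduce
import Cfsg.Agent.Lib.Invol.ThreeFree.SzFrame
import Cfsg.Agent.S0331

/-!
# Homogeneity for a set of odd primes in groups of order prime to 3

Given that the non-abelian simple groups of order prime to 3 are Suzuki groups, a homogeneous group for a
set `π` of odd primes splits: in a minimal counterexample the Sylow subgroups for the least prime of `π` are
cyclic, so Burnside's transfer applies.
-/

set_option autoImplicit false
set_option linter.unusedSectionVars false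
set_option linter.style.haveILetI false

namespace Cfsg.Agent.Invol.PiTwoClosed

open Subgroup
open scoped Pointwise

universe u

variable {G : Type u} [Group G] [Finite G] {π : Set ℕ}

/-- Simple groups of order prime to three are Suzuki groups. -/
def ThreePrimeSuzuki : Prop :=
  ∀ (X : Type u) [Group X] [Finite X] [IsSimpleGroup X], ¬ IsMulCommutative X → ¬ 3 ∣ Nat.card X →
    Cfsg.Lie.IsoSuzuki X

theorem odd_of_piGroup (hodd : ∀ p ∈ π, p ≠ 2) {H : Subgroup G} (hH : PiGroup π H) : Odd (Nat.card ↥H) :=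
  Nat.not_even_iff_odd.1 fun h => hodd 2 (hH 2 Nat.prime_two (even_iff_two_dvd.1 h)) rfl

/-- Quotients by normal `π'`-subgroups are homogeneous, `π` being a set of odd primes. -/
theorem homog_of_piPrime_ker_odd {Q : Type u} [Group Q] [Finite Q] (f : G →* Q) (hf : Function.Surjective f)
    (hk : PiGroup πᶜ f.ker) (hodd : ∀ p ∈ π, p ≠ 2) (hh : Homog π G) : Homog π Q := by
  intro L hL y hy hyn
  obtain ⟨H, hHle, hHc, hHL, -⟩ := exists_complement f hf hk (σ := πᶜ) (by rwa [compl_compl])
  obtain ⟨x, rfl⟩ := hf y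
  have hHp : PiGroup π H := fun p hp hd => hL p hp (hHc ▸ hd)
  have hle : MulAut.conj x • H ≤ f.ker ⊔ H := by
    rintro w ⟨h, hhH, rfl⟩
    have hfw : f (x * h * x⁻¹) ∈ L := by
      rw [map_mul, map_mul, map_inv]
      exact (mem_normalizer_iff.1 hyn (f h)).1 (Subgroup.mem_comap.1 (hHle hhH))
    rw [← hHL] at hfw
    obtain ⟨h', hh', he⟩ := hfw
    show x * h * x⁻¹ ∈ f.ker ⊔ H
    rw [show x * h * x⁻¹ = (x * h * x⁻¹ * h'⁻¹) * h' by group]
    exact mul_mem_sup (MonoidHom.mem_ker.2 (by rw [map_mul, map_inv, he, mul_inv_cancel])) hh'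
  obtain ⟨n, hn, hnH⟩ := Grp.exists_conj_of_le_sup (N := f.ker) (H := H) (K := MulAut.conj x • H)
    (by rw [normalizer_eq_top_iff.2 (MonoidHom.normal_ker f)]; exact le_top) hle (Grp.card_conj_smul x H)
    (hHp.coprime hk).symm (Or.inr (Cfsg.Agent.S0205.result (odd_of_piGroup hodd hHp)))
  have hnorm : n⁻¹ * x ∈ normalizer (H : Set G) := Grp.mem_normalizer_iff_smul.2 (by
    rw [map_mul, mul_smul, ← hnH, map_inv, inv_smul_smul])
  have hpi : IsPiEl πᶜ (n⁻¹ * x) := isPiEl_of_image f hk (by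
    rw [map_mul, map_inv, MonoidHom.mem_ker.1 hn, inv_one, one_mul]; exact hy)
  have hcen := hh H hHp _ hpi hnorm
  refine mem_centralizer_iff.2 fun w hw => ?_
  rw [SetLike.mem_coe, ← hHL] at hw
  obtain ⟨h, hhH, rfl⟩ := hw
  have h1 := congrArg f (mem_centralizer_iff.1 hcen h hhH)
  simpa only [map_mul, map_inv, MonoidHom.mem_ker.1 hn, inv_one, one_mul] using h1

theorem sylow_cyclic_of_isoSuzuki (h : Cfsg.Lie.IsoSuzuki G) {p : ℕ} [Fact p.Prime] (hp : p ≠ 2)
    (P : Sylow p G) : IsCyclic ↥(P : Subgroup G) := by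
  haveI : Fact (Nat.Prime 2) := ⟨Nat.prime_two⟩
  obtain ⟨F, i1, i2, m, hS, e, -⟩ := ThreeFree.exists_frame h (default : Sylow 2 G)
  let f : G →* ↥(Cfsg.Sz F m) := e.symm.toMonoidHom
  have hf : Function.Surjective f := e.symm.surjective
  haveI := Cfsg.Agent.S0331.result hS.1 hS.2 hp (P.mapSurjective hf)
  exact isCyclic_of_injective
    ((f.comp (P : Subgroup G).subtype).codRestrict ((P.mapSurjective hf : Sylow p ↥(Cfsg.Sz F m)) : Subgroup _)
      fun x => by
        show f (x : G) ∈ ((P : Subgroup G).map f : Subgroup ↥(Cfsg.Sz F m))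
        exact mem_map_of_mem f x.2)
    fun a b hab => Subtype.ext (e.symm.injective (congrArg Subtype.val hab))

/-- No simple counterexample. -/
theorem false_of_odd_simple [IsSimpleGroup G] (hna : ¬ IsMulCommutative G) (hS : Cfsg.Lie.IsoSuzuki G)
    (hodd : ∀ p ∈ π, p ≠ 2) (hh : Homog π G) (hns : ¬ Split π G) : False := by
  classical
  have hex : ∃ p : ℕ, p.Prime ∧ p ∈ π ∧ p ∣ Nat.card G := by
    by_contra hno
    exact hns ⟨⊤, fun x => ⟨fun _ p hp hd hpπ => hno ⟨p, hp, hpπ, hd.trans (orderOf_dvd_natCard x)⟩,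
      fun _ => mem_top x⟩⟩
  obtain ⟨hp, hpπ, hpG⟩ := Nat.find_spec hex
  set p := Nat.find hex with hpdef
  haveI := Fact.mk hp
  obtain ⟨P⟩ : Nonempty (Sylow p G) := inferInstance
  haveI hcyc := sylow_cyclic_of_isoSuzuki hS (hodd p hpπ) P
  set C := centralizer ((P : Subgroup G) : Set G)
  set N := normalizer ((P : Subgroup G) : Set G)
  have hPC : (P : Subgroup G) ≤ C := fun x hx => mem_centralizer_iff.2 fun y hy =>
    congrArg Subtype.val ((IsCyclic.isMulCommutative (α := ↥(P : Subgroup G))).is_comm.comm ⟨y, hy⟩ ⟨x, hx⟩)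
  have hPp : PiGroup π (P : Subgroup G) := piGroup_of_isPGroup hpπ P.2
  have hrel : C.relIndex N = 1 := by
    by_contra hne
    obtain ⟨q, hq, hqd⟩ := Nat.exists_prime_and_dvd hne
    haveI := Fact.mk hq
    have hqπ : q ∈ π := by
      by_contra hqs
      obtain ⟨R⟩ : Nonempty (Sylow q ↥N) := inferInstance
      have hle : (R : Subgroup ↥N) ≤ C.subgroupOf N := fun y hy =>
        mem_subgroupOf.2 (hh _ hPp y
          ((isPiEl_of_mem (piGroup_of_isPGroup (σ := πᶜ) hqs R.2) hy).map N.subtype) y.2)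
      exact R.not_dvd_index (dvd_trans hqd (Subgroup.index_dvd_of_le hle))
    have hqG : q ∣ Nat.card G :=
      hqd.trans ((relIndex_dvd_card _ _).trans (Subgroup.card_subgroup_dvd_card _))
    have hle : p ≤ q := Nat.find_min' hex ⟨hq, hqπ, hqG⟩
    have hqp : q ≠ p := by
      intro e
      subst q
      exact P.not_dvd_index ((hqd.trans (relIndex_dvd_index_of_le
        (centralizer_le_normalizer _))).trans (index_dvd_of_le hPC))
    have key := card_dvd_of_injective _ (QuotientGroup.kerLift_injective (P : Subgroup G).normalizerMonoidHom)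
    rw [normalizerMonoidHom_ker, ← index, ← relIndex] at key
    obtain ⟨k, hk⟩ := P.2.exists_card_eq
    have h1 := hqd.trans key
    rw [hcyc.card_mulAut, hk] at h1
    rcases Nat.eq_zero_or_pos k with h0 | h0
    · rw [h0, pow_zero, Nat.totient_one] at h1
      exact hq.ne_one (Nat.dvd_one.1 h1)
    · rw [Nat.totient_prime_pow hp h0] at h1
      rcases hq.dvd_mul.1 h1 with h2 | h2
      · exact hqp ((Nat.prime_dvd_prime_iff_eq hq hp).1 (hq.dvd_of_dvd_pow h2))
      · have := Nat.le_of_dvd (Nat.sub_pos_of_lt hp.one_lt) h2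
        omega
  have hNC : N ≤ C := relIndex_eq_one.1 hrel
  have hcomp := MonoidHom.ker_transferSylow_isComplement' P hNC
  rcases (MonoidHom.normal_ker (MonoidHom.transferSylow P hNC)).eq_bot_or_eq_top with hb | ht
  · rw [hb] at hcomp
    have htop : (P : Subgroup G) = ⊤ := isComplement'_bot_left.1 hcomp
    refine hna ⟨⟨fun a b => ?_⟩⟩
    exact congrArg Subtype.val ((IsCyclic.isMulCommutative (α := ↥(P : Subgroup G))).is_comm.comm
      ⟨a, htop.ge (mem_top a)⟩ ⟨b, htop.ge (mem_top b)⟩)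
  · rw [ht] at hcomp
    have hbot : (P : Subgroup G) = ⊥ := isComplement'_top_left.1 hcomp
    exact P.ne_bot_of_dvd_card hpG hbot

theorem split_odd_aux (hT : ThreePrimeSuzuki.{u}) (hodd : ∀ p ∈ π, p ≠ 2) :
    ∀ (n : ℕ) (G : Type u) [Group G] [Finite G],
      Nat.card G = n → ¬ 3 ∣ Nat.card G → Homog π G → Split π G := by
  intro n
  induction n using Nat.strong_induction_on with
  | _ n ih =>
    intro G _ _ hn h3 hh
    subst hn
    by_contra hns
    have hquot : ∀ (N : Subgroup G) [N.Normal], ¬ 3 ∣ Nat.card (G ⧸ N) := fun N _ h =>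
      h3 (h.trans ⟨_, Subgroup.card_eq_card_quotient_mul_card_subgroup N⟩)
    have hprim : ∀ N : Subgroup G, N.Normal → PiGroup πᶜ N → N = ⊥ := by
      intro N hN hp
      by_contra hne
      haveI := hN
      have hs := QuotientGroup.mk'_surjective N
      have hkN : PiGroup πᶜ (QuotientGroup.mk' N).ker := by rwa [QuotientGroup.ker_mk']
      exact hns (split_of_piPrime_ker _ hs hkN (ih _ (card_quotient_lt hne) _ rfl (hquot N)
        (homog_of_piPrime_ker_odd _ hs hkN hodd hh)))
    have hcen : ∀ Z : Subgroup G, Z ≤ center G → PiGroup π Z → Z = ⊥ := by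
      intro Z hZ hp
      by_contra hne
      haveI : Z.Normal := ⟨fun z hz g => by rwa [mem_center_iff.1 (hZ hz) g, mul_inv_cancel_right]⟩
      have hs := QuotientGroup.mk'_surjective Z
      have hkZ : PiGroup π (QuotientGroup.mk' Z).ker := by rwa [QuotientGroup.ker_mk']
      exact hns (split_of_central_ker _ hs hkZ (by rwa [QuotientGroup.ker_mk'])
        (ih _ (card_quotient_lt hne) _ rfl (hquot Z) (homog_of_pi_ker _ hs hkZ hh)))
    have hZ : center G = ⊥ := by
      refine hcen _ le_rfl (piGroup_of_no_piEl fun x hx hxp => ?_)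
      exact zpowers_eq_bot.1 (hprim (zpowers x) ⟨fun y hy g => by
        rwa [mem_center_iff.1 (zpowers_le.2 hx hy) g, mul_inv_cancel_right]⟩ (piGroup_zpowers hxp))
    have hproper : ∀ U : Subgroup G, U ≠ ⊤ → Split π ↥U := fun U hU =>
      ih _ (lt_of_le_of_ne (Subgroup.card_le_card_group U) fun e => hU (Subgroup.eq_top_of_card_eq U e)) _ rfl
        (fun h => h3 (h.trans (Subgroup.card_subgroup_dvd_card U))) (hh.of_injective U.subtype_injective)
    have hnorm : ∀ N : Subgroup G, N.Normal → N = ⊥ ∨ N = ⊤ := by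
      intro N hN
      refine or_iff_not_imp_right.2 fun hNt => ?_
      obtain ⟨K, hK⟩ := hproper N hNt
      have hKm : ∀ x, x ∈ K.map N.subtype ↔ x ∈ N ∧ IsPiEl πᶜ x := by
        intro x
        constructor
        · rintro ⟨k, hk, rfl⟩
          exact ⟨k.2, ((hK k).1 hk).map N.subtype⟩
        · rintro ⟨hxN, hxp⟩
          exact ⟨⟨x, hxN⟩, (hK _).2 ((isPiEl_map_iff N.subtype_injective).1 hxp), rfl⟩
      have hK0 := hprim (K.map N.subtype)
        ⟨fun x hx g => (hKm _).2 ⟨hN.conj_mem x ((hKm x).1 hx).1 g, ((hKm x).1 hx).2.conj g⟩⟩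
        (piGroup_of_forall fun x hx => ((hKm x).1 hx).2)
      have hNp : PiGroup π N := piGroup_of_no_piEl fun x hx hxp => by
        have := (hKm x).2 ⟨hx, hxp⟩
        rwa [hK0, mem_bot] at this
      have hcent : ∀ y : G, IsPiEl πᶜ y → y ∈ centralizer (N : Set G) := fun y hy =>
        hh N hNp y hy (by rw [normalizer_eq_top_iff.2 hN]; exact mem_top y)
      by_cases hC : centralizer (N : Set G) = ⊤
      · refine hcen N (fun x hx => mem_center_iff.2 fun g => ?_) hNp
        exact (mem_centralizer_iff.1 (hC.symm ▸ mem_top g : g ∈ centralizer (N : Set G)) x hx).symm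
      · obtain ⟨L, hL⟩ := hproper _ hC
        exact absurd ⟨L.map (centralizer (N : Set G)).subtype, fun x => ⟨fun ⟨k, hk, e⟩ =>
            e ▸ ((hL k).1 hk).map _, fun hx => ⟨⟨x, hcent x hx⟩,
              (hL _).2 ((isPiEl_map_iff (centralizer (N : Set G)).subtype_injective).1 hx), rfl⟩⟩⟩ hns
    haveI : Nontrivial G := not_subsingleton_iff_nontrivial.1 fun hs => hns
      ⟨⊤, fun x => ⟨fun _ => Subsingleton.elim 1 x ▸ IsPiEl.one, fun _ => mem_top x⟩⟩
    haveI : IsSimpleGroup G := ⟨fun N hN => hnorm N hN⟩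
    have hna : ¬ IsMulCommutative G := fun hcomm => by
      have : center G = ⊤ := eq_top_iff.2 fun x _ => mem_center_iff.2 fun g => hcomm.is_comm.comm g x
      exact top_ne_bot (this.symm.trans hZ)
    exact false_of_odd_simple hna (hT G hna h3) hodd hh hns

/-- The statement S4045, given the Suzuki recognition of simple groups of order prime to 3. -/
theorem split_of_threePrime (π : Set ℕ) (hT : ThreePrimeSuzuki.{u})
    (hodd : ∀ p ∈ π, p.Prime ∧ p ≠ 2) (h3 : ¬ 3 ∣ Nat.card G)
    (hhom : ∀ H : Subgroup G, H ≠ ⊥ → (∀ p : ℕ, p.Prime → p ∣ Nat.card ↥H → p ∈ π) →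
      ∀ p : ℕ, p.Prime →
        p ∣ (Subgroup.centralizer (H : Set G)).relIndex (Subgroup.normalizer (H : Set G)) → p ∈ π) :
    ∃ K : Subgroup G, ∀ x : G, x ∈ K ↔ ∀ p : ℕ, p.Prime → p ∣ orderOf x → p ∉ π := by
  refine split_odd_aux hT (fun p hp => (hodd p hp).2) _ G rfl h3 fun H hH y hy hyn => ?_
  rcases eq_or_ne H ⊥ with rfl | hne
  · exact mem_centralizer_iff.2 fun h hh => by
      rw [SetLike.mem_coe, mem_bot] at hh
      rw [hh, one_mul, mul_one]
  set N := normalizer (H : Set G) with hN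
  haveI hn : ((centralizer (H : Set G)).subgroupOf N).Normal := by
    rw [hN, ← normalizerMonoidHom_ker]
    infer_instance
  have hpow := Subgroup.pow_index_mem ((centralizer (H : Set G)).subgroupOf N) (⟨y, hyn⟩ : ↥N)
  have hcop : Nat.Coprime (orderOf y)
      ((centralizer (H : Set G)).subgroupOf N).index := Nat.coprime_of_dvd fun p hp h1 h2' =>
    hy p hp h1 (hhom H hne hH p hp h2')
  obtain ⟨j, hj⟩ := exists_pow_eq_self_of_coprime hcop.symm
  rw [← hj]
  exact pow_mem (mem_subgroupOf.1 hpow) j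

end Cfsg.Agent.Invol.PiTwoClosed
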