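import Cfsg.Agent.Lib.Invol.PiTwoClosed.Final
import Cfsg.Agent.Lib.Invol.SPEmbedded
import Cfsg.Agent.Lib.Transfer.UFLyons.Basic

/-!
# The remaining case from a strongly embedded subgroup in groups with a Sylow 2-subgroup of that shape
-/

set_option autoImplicit false
set_option linter.style.haveILetI false

namespace Cfsg.Agent.Invol.PiTwoClosed

open Subgroup

universe u

theorem shapeCase_of_main {π : Set ℕ} (hMain : Transfer.UFLyons.Main.{u}) : ShapeCase.{u} π := by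
  intro X _ _ _ M S hS
  haveI : Fact (Nat.Prime 2) := ⟨Nat.prime_two⟩
  obtain ⟨Y, hY⟩ := hMain X S hS
  obtain ⟨hev, htop, hodd⟩ := Invol.isStronglyPEmbedded_iff.1 hY
  exact M.false_of_stronglyEmbedded ⟨htop, even_iff_two_dvd.2 hev, fun g hg =>
    Nat.not_even_iff_odd.1 fun h => hodd g hg (even_iff_two_dvd.1 h)⟩

/-- The statement S3258, given `UFLyons.Main`. -/
theorem equivalence_of_main {G : Type u} [Group G] [Finite G] (π : Set ℕ) (h2 : 2 ∈ π)
    (hMain : Transfer.UFLyons.Main.{u})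
    (hcl : ∀ H : Subgroup G, (∀ p : ℕ, p.Prime → p ∣ Nat.card ↥H → p ∈ π) →
      ∀ P : Sylow 2 ↥H, (P : Subgroup ↥H).Normal) :
    (∃ K : Subgroup G, ∀ x : G, x ∈ K ↔ ∀ p : ℕ, p.Prime → p ∣ orderOf x → p ∉ π) ↔
      (∀ H : Subgroup G, H ≠ ⊥ → (∀ p : ℕ, p.Prime → p ∣ Nat.card ↥H → p ∈ π) →
        ∀ p : ℕ, p.Prime →
          p ∣ (Subgroup.centralizer (H : Set G)).relIndex (Subgroup.normalizer (H : Set G)) → p ∈ π) :=
  equivalence π h2 (shapeCase_of_main hMain) hcl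

end Cfsg.Agent.Invol.PiTwoClosed
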