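import Cfsg.Agent.Lib.Invol.PiTwoClosed.Min
import Cfsg.Agent.Lib.Transfer.SFT.Graph

/-!
# The minimal counterexample has 2-rank at most two
-/

set_option autoImplicit false
set_option linter.unusedSectionVars false
set_option linter.style.haveILetI false

namespace Cfsg.Agent.Invol.PiTwoClosed

open Subgroup
open scoped Pointwise

universe u

variable {G : Type u} [Group G] [Finite G] {π : Set ℕ}

theorem piCore_map_conj (U : Subgroup G) (g : G) :
    (piCore π U).map (MulAut.conj g).toMonoidHom = piCore π (U.map (MulAut.conj g).toMonoidHom) := by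
  rw [piCore, piCore, MonoidHom.map_closure]
  congr 1
  ext x
  constructor
  · rintro ⟨y, ⟨hy, hyp⟩, rfl⟩
    exact ⟨mem_map_of_mem _ hy, hyp.map _⟩
  · rintro ⟨⟨y, hy, rfl⟩, hyp⟩
    exact ⟨y, ⟨hy, (isPiEl_map_iff (MulAut.conj g).injective).1 hyp⟩, rfl⟩

theorem map_conj_centralizer (a g : G) :
    (centralizer ({a} : Set G)).map (MulAut.conj g).toMonoidHom = centralizer ({g * a * g⁻¹} : Set G) := by
  ext x
  rw [Subgroup.mem_map_equiv, mem_centralizer_singleton_iff, mem_centralizer_singleton_iff,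
    MulAut.conj_symm_apply]
  constructor <;> intro h
  · calc x * (g * a * g⁻¹) = g * ((g⁻¹ * x * g) * a) * g⁻¹ := by group
      _ = g * (a * (g⁻¹ * x * g)) * g⁻¹ := by rw [h]
      _ = g * a * g⁻¹ * x := by group
  · calc g⁻¹ * x * g * a = g⁻¹ * (x * (g * a * g⁻¹)) * g := by group
      _ = g⁻¹ * (g * a * g⁻¹ * x) * g := by rw [h]
      _ = a * (g⁻¹ * x * g) := by group

/-- The signalizer functor. -/
def core (π : Set ℕ) (a : G) : Subgroup G := piCore π (centralizer ({a} : Set G))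

theorem core_conj (a g : G) : core π (g * a * g⁻¹) = (core π a).map (MulAut.conj g).toMonoidHom := by
  rw [core, core, piCore_map_conj, map_conj_centralizer]

theorem closure_map_conj (E : Subgroup G) (g : G) :
    (Cfsg.signalizerClosure E (core π)).map (MulAut.conj g).toMonoidHom =
      Cfsg.signalizerClosure (E.map (MulAut.conj g).toMonoidHom) (core π) := by
  refine le_antisymm ?_ (iSup_le fun b => ?_)
  · unfold Cfsg.signalizerClosure
    rw [Subgroup.map_iSup]
    refine iSup_le fun a => ?_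
    rw [← core_conj]
    exact le_iSup (fun b : {b : G // b ∈ E.map (MulAut.conj g).toMonoidHom ∧ b ≠ 1} => core π (b : G))
      ⟨g * a * g⁻¹, ⟨a, a.2.1, rfl⟩, fun e => a.2.2 (mul_eq_left.1 (mul_inv_eq_one.1 e))⟩
  · obtain ⟨⟨a, ha, e⟩, hb⟩ := b.2
    have e' : g * a * g⁻¹ = (b : G) := e
    rw [← e', core_conj]
    exact Subgroup.map_mono (le_iSup (fun c : {c : G // c ∈ E ∧ c ≠ 1} => core π (c : G))
      ⟨a, ha, fun h => hb (by rw [← e', h, mul_one, mul_inv_cancel])⟩)

namespace Min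

variable (M : Min π G) [IsSimpleGroup G]
include M

theorem core_facts {a : G} (ha : a ≠ 1) :
    core π a ≤ centralizer ({a} : Set G) ∧ ¬ 2 ∣ Nat.card ↥(core π a) ∧ Group.IsSolvable ↥(core π a) := by
  have h := M.odd_piCore (M.centralizer_ne_top ha)
  exact ⟨piCore_le _, fun h2 => Nat.not_even_iff_odd.2 h (even_iff_two_dvd.2 h2), Cfsg.Agent.S0205.result h⟩

theorem balance {a b : G} (ha : a ≠ 1) : core π a ⊓ centralizer {b} ≤ core π b := fun x hx =>
  subset_piCore hx.2 ((M.mem_piCore (M.centralizer_ne_top ha)).1 hx.1).2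

/-- The 2-rank is at most two. -/
theorem rank_le_two (S : Sylow 2 G) : Cfsg.PRankLE 2 2 ↥(S : Subgroup G) := by
  haveI : Fact (Nat.Prime 2) := ⟨Nat.prime_two⟩
  by_contra hr
  obtain ⟨B, hBS, hBel, hBc⟩ := Transfer.SFT.not_prankLE_two.1 hr
  obtain ⟨E, hES, hEel, hEc, hEz⟩ := M.exists_central_four S
  have hne : ∀ a : G, (orderOf a = 2 ∧ ¬ Cfsg.PRankLE 2 2 ↥(centralizer ({a} : Set G))) → a ≠ 1 :=
    fun a ha h => by rw [h, orderOf_one] at ha; omega
  have hC := fun a ha => M.core_facts (hne a ha)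
  have heq : ∀ a g : G, (orderOf a = 2 ∧ ¬ Cfsg.PRankLE 2 2 ↥(centralizer ({a} : Set G))) →
      core π (g * a * g⁻¹) = (core π a).map (MulAut.conj g).toMonoidHom := fun a g _ => core_conj a g
  have hbal : ∀ a b : G, (orderOf a = 2 ∧ ¬ Cfsg.PRankLE 2 2 ↥(centralizer ({a} : Set G))) →
      (orderOf b = 2 ∧ ¬ Cfsg.PRankLE 2 2 ↥(centralizer ({b} : Set G))) →
      a * b = b * a → core π a ⊓ centralizer {b} ≤ core π b := fun a b ha _ _ => M.balance (hne a ha)
  have hclo : ∀ {A F : Subgroup G}, Cfsg.IsElementaryAbelian 2 A → 2 ^ 3 ≤ Nat.card A → F ≤ A →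
      2 ^ 2 ≤ Nat.card F → Cfsg.signalizerClosure F (core π) = Cfsg.signalizerClosure A (core π) :=
    fun hA h3 hFA hF => Transfer.SFT.closure_eq_of_le (core π) hC heq hbal hA h3 hFA hF
  have hA0 := Transfer.SFT.elemAb_sup hEel hBel fun a ha b hb => (hEz b (hBS hb) a ha).eq
  have hA03 : 2 ^ 3 ≤ Nat.card ↥(E ⊔ B) := hBc.trans (Subgroup.card_le_of_le le_sup_right)
  set W := Cfsg.signalizerClosure E (core π) with hW
  -- every involution of `S` has its core in `W`
  have hle : ∀ t ∈ (S : Subgroup G), orderOf t = 2 → core π t ≤ W := by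
    intro t ht ht2
    have ht1 : t ≠ 1 := fun h => by rw [h, orderOf_one] at ht2; omega
    obtain ⟨A, hA, hA3, hEA, htA⟩ : ∃ A : Subgroup G, Cfsg.IsElementaryAbelian 2 A ∧ 2 ^ 3 ≤ Nat.card A ∧
        E ≤ A ∧ t ∈ A := by
      by_cases htE : t ∈ E
      · exact ⟨_, hA0, hA03, le_sup_left, mem_sup_left htE⟩
      have hzel : Cfsg.IsElementaryAbelian 2 (zpowers t) := by
        refine ⟨inferInstance, fun x hx => ?_⟩
        obtain ⟨i, rfl⟩ := mem_zpowers_iff.1 hx
        rw [← zpow_natCast, ← zpow_mul, mul_comm, zpow_mul, zpow_natCast,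
          orderOf_dvd_iff_pow_eq_one.1 (dvd_of_eq ht2), one_zpow]
      have hA := Transfer.SFT.elemAb_sup hEel hzel fun a ha b hb =>
        (hEz b (zpowers_le.2 ht hb) a ha).eq
      refine ⟨_, hA, ?_, le_sup_left, mem_sup_right (mem_zpowers t)⟩
      obtain ⟨k, hk⟩ := IsPGroup.iff_card.1 (Grp.elemAb_isPGroup hA)
      have hlt : E < E ⊔ zpowers t :=
        lt_of_le_of_ne le_sup_left fun e => htE (e ▸ mem_sup_right (mem_zpowers t))
      have h4 : Nat.card ↥E < Nat.card ↥(E ⊔ zpowers t) :=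
        Set.Finite.card_lt_card (Set.toFinite _) (SetLike.coe_ssubset_coe.2 hlt)
      rw [hk] at h4 ⊢
      refine Nat.pow_le_pow_right two_pos ?_
      have : 2 ^ 2 < 2 ^ k := by omega
      exact (Nat.pow_lt_pow_iff_right one_lt_two).1 this
    rw [hW, hclo hA hA3 hEA hEc]
    exact le_iSup (fun a : {a : G // a ∈ A ∧ a ≠ 1} => core π (a : G)) ⟨t, htA, ht1⟩
  have hW1 : W ≠ ⊥ := by
    intro h
    refine M.false_of_cores fun t ht => ?_
    obtain ⟨T, hT⟩ := (IsPGroup.of_card (p := 2) (n := 1)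
      (show Nat.card ↥(zpowers t) = 2 ^ 1 by rw [Nat.card_zpowers, ht, pow_one])).exists_le_sylow
    obtain ⟨g, hg⟩ := MulAction.exists_smul_eq G T S
    have hmem : g * t * g⁻¹ ∈ (S : Subgroup G) := by
      rw [← hg, Sylow.coe_subgroup_smul]
      exact ⟨t, hT (mem_zpowers t), rfl⟩
    have h1 := hle _ hmem (by rw [orderOf_conj_eq, ht])
    rw [h, le_bot_iff, core_conj, Subgroup.map_eq_bot_iff_of_injective _ (MulAut.conj g).injective] at h1
    exact h1
  have hWodd : ¬ 2 ∣ Nat.card ↥W := by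
    rw [hW, hclo hA0 hA03 le_sup_left hEc]
    exact (Transfer.SFT.closure_complete hA0 hA03
      (Transfer.SFT.functor_of_rank_three (core π) hC heq hbal hA0 hA03)).2.1
  have hWtop : W ≠ ⊤ := fun e => by
    rw [e, Subgroup.card_top] at hWodd
    exact M.not_odd (Nat.not_even_iff_odd.1 fun h => hWodd (even_iff_two_dvd.1 h))
  have hfix : ∀ g : G, E.map (MulAut.conj g).toMonoidHom = E → g ∈ normalizer (W : Set G) := fun g hg =>
    Grp.mem_normalizer_iff_smul.2 (by rw [← Grp.map_conj_eq_smul, hW, closure_map_conj, hg])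
  have hC_E : centralizer (E : Set G) ≤ normalizer (W : Set G) := fun c hc => hfix c (by
    have key : ∀ e ∈ E, c * e * c⁻¹ = e := fun e he => by
      rw [← mem_centralizer_iff.1 hc e he, mul_inv_cancel_right]
    ext x
    constructor
    · rintro ⟨e, he, rfl⟩
      show c * e * c⁻¹ ∈ E
      rwa [key e he]
    · exact fun hx => ⟨x, hx, key x hx⟩)
  have hN : normalizer ((S : Subgroup G) : Set G) ≤ normalizer (W : Set G) := by
    intro n hn
    refine Grp.mem_normalizer_iff_smul.2 ?_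
    rw [← Grp.map_conj_eq_smul, hW, closure_map_conj]
    set E' := E.map (MulAut.conj n).toMonoidHom
    have hE'S : E' ≤ (S : Subgroup G) := by
      rintro _ ⟨e, he, rfl⟩
      exact (mem_normalizer_iff.1 hn e).1 (hES he)
    have hE'z : ∀ x ∈ (S : Subgroup G), ∀ e ∈ E', Commute e x := by
      rintro x hx _ ⟨e, he, rfl⟩
      have h1 := hEz _ ((mem_normalizer_iff.1 (inv_mem hn) x).1 hx) e he
      rw [inv_inv] at h1
      have h2 := h1.map (MulAut.conj n).toMonoidHom
      rwa [show (MulAut.conj n).toMonoidHom (n⁻¹ * x * n) = x by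
        show n * (n⁻¹ * x * n) * n⁻¹ = x
        group] at h2
    have hE'el : Cfsg.IsElementaryAbelian 2 E' := Transfer.Thompson.isElementaryAbelian_map _ hEel
    have hA1 := Transfer.SFT.elemAb_sup hE'el hA0 fun a ha b hb =>
      (hE'z b (sup_le hES hBS hb) a ha).eq
    have hA13 : 2 ^ 3 ≤ Nat.card ↥(E' ⊔ (E ⊔ B)) := hA03.trans (Subgroup.card_le_of_le le_sup_right)
    rw [hclo hA1 hA13 le_sup_left
        (by rw [Subgroup.card_map_of_injective (MulAut.conj n).injective]; exact hEc),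
      hclo hA1 hA13 (le_sup_left.trans le_sup_right) hEc]
  refine M.false_of_stronglyEmbedded (CoreConsumers.isStronglyEmbedded_of_centralizers
    (M.ne_top_of_normalized hW1 hWtop le_rfl) S hN (M.sylow_ne_bot S) fun t ht ht2 g hg => ?_)
  have ht1 : t ≠ 1 := fun h => by rw [h, orderOf_one] at ht2; omega
  have hEU : E ≤ centralizer ({t} : Set G) := fun e he =>
    mem_centralizer_singleton_iff.2 (hEz t ht e he).eq
  obtain ⟨P, hPU, hPp, hQP, hall⟩ :=
    M.exists_sylow_in (M.centralizer_ne_top ht1) (S.2.to_le hES |>.to_le le_rfl) hEU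
  have hgP : MulAut.conj g • P ≤ centralizer ({t} : Set G) := by
    rintro _ ⟨p, hp, rfl⟩
    exact mul_mem (mul_mem hg (hPU hp)) (inv_mem hg)
  obtain ⟨k, hk, hkP⟩ := hall _ (hPp.map _) hgP
  have heqP : MulAut.conj (k⁻¹ * g) • P = P := by
    rw [map_mul, mul_smul, map_inv, inv_smul_eq_iff]
    exact Subgroup.eq_of_le_of_card_ge hkP (by rw [Grp.card_conj_smul, Grp.card_conj_smul])
  have hkW : k ∈ normalizer (W : Set G) := le_normalizer (hle t ht ht2 hk)
  obtain ⟨T, hT⟩ := hPp.exists_le_sylow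
  have hEne : E ≠ ⊥ := fun h => by rw [h, Subgroup.card_bot] at hEc; omega
  obtain ⟨c, hc, e1⟩ := M.conj_of_le hEne S T hES (hQP.trans hT)
  have hT' : E ≤ (((k⁻¹ * g) • T : Sylow 2 G) : Subgroup G) := by
    rw [Sylow.coe_subgroup_smul]
    exact hQP.trans (heqP.ge.trans (Subgroup.pointwise_smul_le_pointwise_smul_iff.2 hT))
  obtain ⟨c', hc', e2⟩ := M.conj_of_le hEne S ((k⁻¹ * g) • T) hES hT'
  have h1 : c'⁻¹ * (k⁻¹ * g) * c ∈ normalizer (W : Set G) :=
    hN (M.mem_normalizer_of_smul (by rw [mul_smul, mul_smul, e1, ← e2, inv_smul_smul]))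
  have h2 := mul_mem (mul_mem hkW (mul_mem (hC_E hc') h1)) (inv_mem (hC_E hc))
  rwa [show k * (c' * (c'⁻¹ * (k⁻¹ * g) * c)) * c⁻¹ = g by group] at h2

end Min

end Cfsg.Agent.Invol.PiTwoClosed
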