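import Cfsg.Agent.Lib.Invol.PiTwoClosed.Basic
import Cfsg.Agent.Lib.Grp.SchurZassenhaus
import Cfsg.Agent.Lib.Grp.Basic
import Cfsg.Agent.S0205

/-!
# Reduction to simple groups all of whose proper subgroups split
-/

set_option autoImplicit false
set_option linter.unusedSectionVars false
set_option linter.style.haveILetI false

namespace Cfsg.Agent.Invol.PiTwoClosed

open Subgroup
open scoped Pointwise

universe u

variable {G : Type u} [Group G] [Finite G] {Q : Type u} [Group Q] [Finite Q] {σ π : Set ℕ}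

/-! ### Subgroups -/

theorem Closed.of_injective (hc : Closed π G) {f : Q →* G} (hf : Function.Injective f) : Closed π Q :=
  fun H hH a ha b hb ha2 hb2 => (twoEl_map_iff hf).1 (by
    rw [map_mul]
    exact hc _ (hH.map f) _ (mem_map_of_mem f ha) _ (mem_map_of_mem f hb) (ha2.map f) (hb2.map f))

theorem Homog.of_injective (hh : Homog π G) {f : Q →* G} (hf : Function.Injective f) : Homog π Q :=
  fun H hH y hy hyn => mem_centralizer_iff.2 fun h hhH => hf (by
    have h1 := hh _ (hH.map f) _ (hy.map f) (le_normalizer_map f (mem_map_of_mem f hyn))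
    rw [map_mul, map_mul]
    exact mem_centralizer_iff.1 h1 _ (mem_map_of_mem f hhH))

/-- A subgroup without nontrivial `π'`-elements is a `π`-group. -/
theorem piGroup_of_no_piEl {H : Subgroup G} (h : ∀ x ∈ H, IsPiEl πᶜ x → x = 1) : PiGroup π H := by
  intro p hp hd
  by_contra hps
  haveI := Fact.mk hp
  obtain ⟨y, hy⟩ := exists_prime_orderOf_dvd_card' (G := ↥H) p hd
  rw [← Subgroup.orderOf_coe] at hy
  have h1 := h y y.2 fun q hq hqd => by
    rw [hy] at hqd
    rwa [(Nat.prime_dvd_prime_iff_eq hq hp).1 hqd]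
  rw [h1, orderOf_one] at hy
  exact hp.ne_one hy.symm

theorem twoEl_of_forall {x : G} (h : ∀ p : ℕ, p.Prime → p ∣ orderOf x → p = 2) : TwoEl x :=
  ⟨_, Nat.eq_prime_pow_of_unique_prime_dvd (orderOf_pos x).ne' fun {p} hp hd => h p hp hd⟩

/-! ### Complements -/

theorem exists_complement (f : G →* Q) (hf : Function.Surjective f) (hk : PiGroup σ f.ker)
    {L : Subgroup Q} (hL : PiGroup σᶜ L) :
    ∃ H : Subgroup G, H ≤ L.comap f ∧ Nat.card ↥H = Nat.card ↥L ∧ H.map f = L ∧
      Function.Injective (f.comp H.subtype) := by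
  have hle : f.ker ≤ L.comap f := fun x hx => Subgroup.mem_comap.2 (by
    rw [MonoidHom.mem_ker.1 hx]; exact L.one_mem)
  have hNc : Nat.card ↥(f.ker.subgroupOf (L.comap f)) = Nat.card ↥f.ker :=
    Nat.card_congr (Subgroup.subgroupOfEquivOfLe hle).toEquiv
  have hidx : (f.ker.subgroupOf (L.comap f)).index = Nat.card ↥L := by
    have h1 := Subgroup.card_mul_index (f.ker.subgroupOf (L.comap f))
    rw [hNc, card_comap hf] at h1
    exact Nat.eq_of_mul_eq_mul_left Nat.card_pos h1
  have hcop : (Nat.card ↥f.ker).Coprime (Nat.card ↥L) := hk.coprime hL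
  obtain ⟨H, hH⟩ := Subgroup.exists_right_complement'_of_coprime
    (N := f.ker.subgroupOf (L.comap f)) (by rwa [hNc, hidx])
  have hHc : Nat.card ↥H = Nat.card ↥L := by
    have h1 := hH.card_mul_card
    rw [hNc, card_comap hf] at h1
    exact Nat.eq_of_mul_eq_mul_left Nat.card_pos h1
  have hMc : Nat.card ↥(H.map (L.comap f).subtype) = Nat.card ↥L := by
    rw [Subgroup.card_map_of_injective (L.comap f).subtype_injective, hHc]
  have hinj : Function.Injective (f.comp (H.map (L.comap f).subtype).subtype) := by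
    refine (injective_iff_map_eq_one _).2 fun x hx => Subtype.ext ?_
    exact eq_one_of_isPiEl (isPiEl_of_mem hk (MonoidHom.mem_ker.2 hx))
      (isPiEl_of_mem (fun p hp hd => hL p hp (hMc ▸ hd)) x.2)
  refine ⟨_, map_subtype_le _, hMc, Subgroup.eq_of_le_of_card_ge ?_ ?_, hinj⟩
  · exact map_le_iff_le_comap.2 (map_subtype_le _)
  · have h1 := Subgroup.card_map_of_injective hinj (K := ⊤)
    rw [← Subgroup.map_map, ← MonoidHom.range_eq_map, Subgroup.range_subtype, Subgroup.card_top, hMc] at h1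
    rw [h1]

/-! ### Quotients by `π'`-groups -/

section PiPrimeKernel

variable (f : G →* Q) (hf : Function.Surjective f) (hk : PiGroup πᶜ f.ker)
include hf hk

theorem closed_of_piPrime_ker (hc : Closed π G) : Closed π Q := by
  intro L hL
  obtain ⟨H, -, hHc, hHL, hinj⟩ := exists_complement f hf hk (σ := πᶜ) (by rwa [compl_compl])
  intro a ha b hb ha2 hb2
  rw [← hHL] at ha hb
  obtain ⟨a, ha', rfl⟩ := ha
  obtain ⟨b, hb', rfl⟩ := hb
  have key : ∀ w (hw : w ∈ H), TwoEl (f w) → TwoEl w := fun w hw h =>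
    TwoEl.map ((twoEl_map_iff hinj (x := ⟨w, hw⟩)).1 h) H.subtype
  rw [← map_mul]
  exact (hc H (fun p hp hd => hL p hp (hHc ▸ hd)) a ha' b hb' (key a ha' ha2) (key b hb' hb2)).map f

theorem homog_of_piPrime_ker (h2 : 2 ∈ π) (hh : Homog π G) : Homog π Q := by
  intro L hL y hy hyn
  obtain ⟨H, hHle, hHc, hHL, -⟩ := exists_complement f hf hk (σ := πᶜ) (by rwa [compl_compl])
  obtain ⟨x, rfl⟩ := hf y
  have hHp : PiGroup π H := fun p hp hd => hL p hp (hHc ▸ hd)
  have hle : MulAut.conj x • H ≤ f.ker ⊔ H := by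
    rintro w ⟨h, hhH, rfl⟩
    have hfw : f (x * h * x⁻¹) ∈ L := by
      rw [map_mul, map_mul, map_inv]
      exact (mem_normalizer_iff.1 hyn (f h)).1 (Subgroup.mem_comap.1 (hHle hhH))
    rw [← hHL] at hfw
    obtain ⟨h', hh', he⟩ := hfw
    show x * h * x⁻¹ ∈ f.ker ⊔ H
    rw [show x * h * x⁻¹ = (x * h * x⁻¹ * h'⁻¹) * h' by group]
    exact mul_mem_sup (MonoidHom.mem_ker.2 (by rw [map_mul, map_inv, he, mul_inv_cancel])) hh'
  haveI : Group.IsSolvable ↥f.ker := Cfsg.Agent.S0205.result (hk.odd h2)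
  obtain ⟨n, hn, hnH⟩ := Grp.exists_conj_of_le_sup (N := f.ker) (H := H) (K := MulAut.conj x • H)
    (by rw [normalizer_eq_top_iff.2 (MonoidHom.normal_ker f)]; exact le_top) hle (Grp.card_conj_smul x H)
    (hHp.coprime hk).symm (Or.inl inferInstance)
  have hnorm : n⁻¹ * x ∈ normalizer (H : Set G) := Grp.mem_normalizer_iff_smul.2 (by
    rw [map_mul, mul_smul, ← hnH, map_inv, inv_smul_smul])
  have hpi : IsPiEl πᶜ (n⁻¹ * x) := isPiEl_of_image f hk (by
    rw [map_mul, map_inv, MonoidHom.mem_ker.1 hn, inv_one, one_mul]; exact hy)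
  have hcen := hh H hHp _ hpi hnorm
  refine mem_centralizer_iff.2 fun w hw => ?_
  rw [SetLike.mem_coe, ← hHL] at hw
  obtain ⟨h, hhH, rfl⟩ := hw
  have h1 := congrArg f (mem_centralizer_iff.1 hcen h hhH)
  simpa only [map_mul, map_inv, MonoidHom.mem_ker.1 hn, inv_one, one_mul] using h1

theorem split_of_piPrime_ker (hs : Split π Q) : Split π G := by
  obtain ⟨K, hK⟩ := hs
  exact ⟨K.comap f, fun x => ⟨fun h => isPiEl_of_image f hk ((hK _).1 h), fun h => (hK _).2 (h.map f)⟩⟩

end PiPrimeKernel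

/-! ### Quotients by central `π`-groups -/

section CentralKernel

variable (f : G →* Q) (hf : Function.Surjective f) (hk : PiGroup π f.ker)
include hf hk

theorem piGroup_comap {L : Subgroup Q} (hL : PiGroup π L) : PiGroup π (L.comap f) := by
  intro p hp hd
  rw [card_comap hf] at hd
  exact (hp.dvd_mul.1 hd).elim (hk p hp) (hL p hp)

theorem closed_of_pi_ker (hc : Closed π G) : Closed π Q := by
  intro L hL a ha b hb ha2 hb2
  have key : ∀ w ∈ L, TwoEl w → ∃ y ∈ L.comap f, TwoEl y ∧ f y = w := by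
    intro w hw hw2
    obtain ⟨x, rfl⟩ := hf w
    obtain ⟨y, -, hy, hd⟩ := exists_lift f x
    refine ⟨y, Subgroup.mem_comap.2 (hy ▸ hw), twoEl_of_forall fun p hp hpd => ?_, hy⟩
    obtain ⟨k, hk'⟩ := hw2
    exact (Nat.prime_dvd_prime_iff_eq hp Nat.prime_two).1 (hp.dvd_of_dvd_pow (hk' ▸ hd p hp hpd))
  obtain ⟨a', ha', ha'2, rfl⟩ := key a ha ha2
  obtain ⟨b', hb', hb'2, rfl⟩ := key b hb hb2
  rw [← map_mul]
  exact (hc _ (piGroup_comap f hf hk hL) a' ha' b' hb' ha'2 hb'2).map f

theorem homog_of_pi_ker (hh : Homog π G) : Homog π Q := by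
  intro L hL y hy hyn
  obtain ⟨x, rfl⟩ := hf y
  obtain ⟨z, -, hz, hzp⟩ := exists_piEl_lift f hy
  rw [← hz] at hyn ⊢
  have h1 : z ∈ normalizer ((L.comap f : Subgroup G) : Set G) := mem_normalizer_iff.2 fun h => by
    simp only [Subgroup.mem_comap, map_mul, map_inv]
    exact mem_normalizer_iff.1 hyn (f h)
  have hcen := hh _ (piGroup_comap f hf hk hL) z hzp h1
  refine mem_centralizer_iff.2 fun w hw => ?_
  obtain ⟨h, rfl⟩ := hf w
  rw [← map_mul, ← map_mul]
  exact congrArg f (mem_centralizer_iff.1 hcen h (Subgroup.mem_comap.2 hw))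

theorem split_of_central_ker (hz : f.ker ≤ center G) (hs : Split π Q) : Split π G := by
  obtain ⟨K, hK⟩ := hs
  have hKp : PiGroup πᶜ K := piGroup_of_forall fun x hx => (hK x).1 hx
  obtain ⟨C, -, hCc, hCK, -⟩ := exists_complement f hf hk hKp
  have hCp : PiGroup πᶜ C := fun p hp hd => hKp p hp (hCc ▸ hd)
  refine ⟨C, fun x => ⟨fun h => isPiEl_of_mem hCp h, fun h => ?_⟩⟩
  have hx : f x ∈ C.map f := hCK.symm ▸ (hK _).2 (h.map f)
  obtain ⟨c, hc, he⟩ := hx
  have hzk : x * c⁻¹ ∈ f.ker := by rw [MonoidHom.mem_ker, map_mul, map_inv, he, mul_inv_cancel]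
  have hcomm : Commute (x * c⁻¹) c := (mem_center_iff.1 (hz hzk) c).symm
  have h1 : x ^ Nat.card ↥C = (x * c⁻¹) ^ Nat.card ↥C := by
    conv_lhs => rw [show x = (x * c⁻¹) * c by group, hcomm.mul_pow,
      orderOf_dvd_iff_pow_eq_one.1 (Subgroup.orderOf_dvd_natCard _ hc), mul_one]
  have h2 : (x * c⁻¹) ^ Nat.card ↥C = 1 :=
    eq_one_of_isPiEl ((isPiEl_of_mem hk hzk).pow _) (h1 ▸ h.pow _)
  have h3 : x * c⁻¹ = 1 := eq_one_of_isPiEl (isPiEl_of_mem hk hzk) fun p hp hd =>
    hCp p hp (hd.trans (orderOf_dvd_of_pow_eq_one h2))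
  rwa [mul_inv_eq_one.1 h3]

end CentralKernel

/-- The statement to be proved for simple groups. -/
def SimpleCase (π : Set ℕ) : Prop :=
  ∀ (X : Type u) [Group X] [Finite X] [IsSimpleGroup X], ¬ IsMulCommutative X → Closed π X → Homog π X →
    (∀ U : Subgroup X, U ≠ ⊤ → Split π ↥U) → False

theorem card_quotient_lt {N : Subgroup G} (hN : N ≠ ⊥) : Nat.card (G ⧸ N) < Nat.card G := by
  rw [Subgroup.card_eq_card_quotient_mul_card_subgroup N]
  exact lt_mul_of_one_lt_right Nat.card_pos (Subgroup.one_lt_card_iff_ne_bot N |>.2 hN)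

theorem split_aux (h2 : 2 ∈ π) (hcase : SimpleCase.{u} π) :
    ∀ (n : ℕ) (G : Type u) [Group G] [Finite G], Nat.card G = n → Closed π G → Homog π G → Split π G := by
  intro n
  induction n using Nat.strong_induction_on with
  | _ n ih =>
    intro G _ _ hn hc hh
    subst hn
    by_contra hns
    have hprim : ∀ N : Subgroup G, N.Normal → PiGroup πᶜ N → N = ⊥ := by
      intro N hN hp
      by_contra hne
      haveI := hN
      have hs := QuotientGroup.mk'_surjective N
      have hkN : PiGroup πᶜ (QuotientGroup.mk' N).ker := by rwa [QuotientGroup.ker_mk']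
      exact hns (split_of_piPrime_ker _ hs hkN (ih _ (card_quotient_lt hne) _ rfl
        (closed_of_piPrime_ker _ hs hkN hc) (homog_of_piPrime_ker _ hs hkN h2 hh)))
    have hcen : ∀ Z : Subgroup G, Z ≤ center G → PiGroup π Z → Z = ⊥ := by
      intro Z hZ hp
      by_contra hne
      haveI : Z.Normal := ⟨fun z hz g => by rwa [mem_center_iff.1 (hZ hz) g, mul_inv_cancel_right]⟩
      have hs := QuotientGroup.mk'_surjective Z
      have hkZ : PiGroup π (QuotientGroup.mk' Z).ker := by rwa [QuotientGroup.ker_mk']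
      exact hns (split_of_central_ker _ hs hkZ (by rwa [QuotientGroup.ker_mk'])
        (ih _ (card_quotient_lt hne) _ rfl (closed_of_pi_ker _ hs hkZ hc) (homog_of_pi_ker _ hs hkZ hh)))
    have hZ : center G = ⊥ := by
      refine hcen _ le_rfl (piGroup_of_no_piEl fun x hx hxp => ?_)
      have h1 := hprim (zpowers x) ⟨fun y hy g => by
        rwa [mem_center_iff.1 (zpowers_le.2 hx hy) g, mul_inv_cancel_right]⟩ (piGroup_zpowers hxp)
      exact zpowers_eq_bot.1 h1
    have hproper : ∀ U : Subgroup G, U ≠ ⊤ → Split π ↥U := fun U hU =>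
      ih _ (lt_of_le_of_ne (Subgroup.card_le_card_group U) fun e => hU (Subgroup.eq_top_of_card_eq U e)) _ rfl
        (hc.of_injective U.subtype_injective) (hh.of_injective U.subtype_injective)
    have hnorm : ∀ N : Subgroup G, N.Normal → N = ⊥ ∨ N = ⊤ := by
      intro N hN
      refine or_iff_not_imp_right.2 fun hNt => ?_
      obtain ⟨K, hK⟩ := hproper N hNt
      have hKm : ∀ x, x ∈ K.map N.subtype ↔ x ∈ N ∧ IsPiEl πᶜ x := by
        intro x
        constructor
        · rintro ⟨k, hk, rfl⟩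
          exact ⟨k.2, ((hK k).1 hk).map N.subtype⟩
        · rintro ⟨hxN, hxp⟩
          exact ⟨⟨x, hxN⟩, (hK _).2 ((isPiEl_map_iff N.subtype_injective).1 hxp), rfl⟩
      have hK0 := hprim (K.map N.subtype)
        ⟨fun x hx g => (hKm _).2 ⟨hN.conj_mem x ((hKm x).1 hx).1 g, ((hKm x).1 hx).2.conj g⟩⟩
        (piGroup_of_forall fun x hx => ((hKm x).1 hx).2)
      have hNp : PiGroup π N := piGroup_of_no_piEl fun x hx hxp => by
        have := (hKm x).2 ⟨hx, hxp⟩
        rwa [hK0, mem_bot] at this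
      have hcent : ∀ y : G, IsPiEl πᶜ y → y ∈ centralizer (N : Set G) := fun y hy =>
        hh N hNp y hy (by rw [normalizer_eq_top_iff.2 hN]; exact mem_top y)
      by_cases hC : centralizer (N : Set G) = ⊤
      · refine hcen N (fun x hx => mem_center_iff.2 fun g => ?_) hNp
        exact (mem_centralizer_iff.1 (hC.symm ▸ mem_top g : g ∈ centralizer (N : Set G)) x hx).symm
      · obtain ⟨L, hL⟩ := hproper _ hC
        exact absurd ⟨L.map (centralizer (N : Set G)).subtype, fun x => ⟨fun ⟨k, hk, e⟩ =>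
            e ▸ ((hL k).1 hk).map _, fun hx => ⟨⟨x, hcent x hx⟩,
              (hL _).2 ((isPiEl_map_iff (centralizer (N : Set G)).subtype_injective).1 hx), rfl⟩⟩⟩ hns
    haveI : Nontrivial G := not_subsingleton_iff_nontrivial.1 fun hs => hns
      ⟨⊤, fun x => ⟨fun _ => Subsingleton.elim 1 x ▸ IsPiEl.one, fun _ => mem_top x⟩⟩
    haveI : IsSimpleGroup G := ⟨fun N hN => hnorm N hN⟩
    refine hcase G (fun hcomm => ?_) hc hh hproper
    have : center G = ⊤ := eq_top_iff.2 fun x _ => mem_center_iff.2 fun g => hcomm.is_comm.comm g x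
    exact top_ne_bot (this.symm.trans hZ)

/-- All groups split if there is no simple counterexample. -/
theorem split_of_simpleCase (h2 : 2 ∈ π) (hcase : SimpleCase.{u} π) (hc : Closed π G) (hh : Homog π G) :
    Split π G :=
  split_aux h2 hcase _ G rfl hc hh

end Cfsg.Agent.Invol.PiTwoClosed
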