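import Cfsg.Agent.Lib.Invol.PiTwoClosed.Rank
import Cfsg.Agent.Lib.Invol.PiTwoClosed.Klein
import Cfsg.Agent.Lib.OddUse.RankTwoSylow
import Cfsg.Agent.Lib.Block.CpQuot.Congr
import Cfsg.Agent.Lib.Transfer.UnitaryFour.Shape

/-!
# What remains of a minimal counterexample: a Sylow 2-subgroup of `PSU(3, 4)` type
-/

set_option autoImplicit false
set_option linter.unusedSectionVars false
set_option linter.style.haveILetI false

namespace Cfsg.Agent.Invol.PiTwoClosed

open Subgroup

universe u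

variable {G : Type u} [Group G] [Finite G] {π : Set ℕ}

namespace Min

variable (M : Min π G) [IsSimpleGroup G]
include M

/-- All involutions of a Sylow 2-subgroup are central in it. -/
theorem involution_central (S : Sylow 2 G) {t : G} (ht : t ∈ (S : Subgroup G)) (ht2 : orderOf t = 2) :
    ∀ x ∈ (S : Subgroup G), Commute t x := by
  haveI : Fact (Nat.Prime 2) := ⟨Nat.prime_two⟩
  obtain ⟨E, hES, hEel, hEc, hEz⟩ := M.exists_central_four S
  by_cases htE : t ∈ E
  · exact fun x hx => hEz x hx t htE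
  exfalso
  have hzel : Cfsg.IsElementaryAbelian 2 (zpowers t) := by
    refine ⟨inferInstance, fun x hx => ?_⟩
    obtain ⟨i, rfl⟩ := mem_zpowers_iff.1 hx
    rw [← zpow_natCast, ← zpow_mul, mul_comm, zpow_mul, zpow_natCast,
      orderOf_dvd_iff_pow_eq_one.1 (dvd_of_eq ht2), one_zpow]
  have hA := Transfer.SFT.elemAb_sup hEel hzel fun a ha b hb => (hEz b (zpowers_le.2 ht hb) a ha).eq
  refine (Transfer.SFT.not_prankLE_two.2 ⟨_, sup_le hES (zpowers_le.2 ht), hA, ?_⟩) (M.rank_le_two S)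
  obtain ⟨k, hk⟩ := IsPGroup.iff_card.1 (Grp.elemAb_isPGroup hA)
  have h4 : Nat.card ↥E < Nat.card ↥(E ⊔ zpowers t) :=
    Set.Finite.card_lt_card (Set.toFinite _) (SetLike.coe_ssubset_coe.2 (lt_of_le_of_ne le_sup_left fun e =>
      htE (e ▸ mem_sup_right (mem_zpowers t))))
  rw [hk] at h4 ⊢
  refine Nat.pow_le_pow_right two_pos ?_
  have : 2 ^ 2 < 2 ^ k := by omega
  exact (Nat.pow_lt_pow_iff_right one_lt_two).1 this

/-- The Sylow 2-subgroups have the shape of those of `PSU(3, 4)`. -/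
theorem shape (S : Sylow 2 G) : Transfer.UnitaryFour.Shape ↥(S : Subgroup G) := by
  haveI : Fact (Nat.Prime 2) := ⟨Nat.prime_two⟩
  have hcen : ∀ t : ↥(S : Subgroup G), orderOf t = 2 → ∀ x, t * x = x * t := fun t ht x =>
    Subtype.ext (M.involution_central S t.2 (by rw [Subgroup.orderOf_coe, ht]) x x.2)
  have hrX : Cfsg.PRankLE 2 2 G := by
    intro A hA hA2
    obtain ⟨T, hT⟩ := (Grp.elemAb_isPGroup (p := 2) ⟨hA, hA2⟩).exists_le_sylow
    have h := Block.CpQuot.pRankLE_congr (Sylow.equiv S T) (M.rank_le_two S) (A.subgroupOf (T : Subgroup G))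
      ⟨⟨fun a b => Subtype.ext (Subtype.ext (congrArg Subtype.val (hA.is_comm.comm ⟨_, a.2⟩ ⟨_, b.2⟩) :))⟩⟩
      fun a ha => Subtype.ext (hA2 _ ha)
    rwa [Nat.card_congr (subgroupOfEquivOfLe hT).toEquiv] at h
  letI : Fintype (GaloisField 2 4) := Fintype.ofFinite _
  have hF : Fintype.card (GaloisField 2 4) = 16 := by
    rw [← Nat.card_eq_fintype_card, GaloisField.card 2 4 (by norm_num)]
    norm_num
  obtain ⟨P⟩ : Nonempty (Sylow 2 (Cfsg.PSU 3 (GaloisField 2 4) 4)) := inferInstance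
  rcases OddUse.simple_rank_two_sylow M.nc (Nat.not_odd_iff_even.1 M.not_odd) hrX S hF P with
    ⟨n, hn, ⟨e⟩⟩ | h | h | ⟨⟨e⟩⟩
  · exfalso
    have ho : orderOf (e.symm (DihedralGroup.sr 0)) = 2 := by
      have := orderOf_injective e.symm.toMonoidHom e.symm.injective (DihedralGroup.sr (0 : ZMod n))
      rw [DihedralGroup.orderOf_sr] at this
      exact this
    have h1 := congrArg e (hcen _ ho (e.symm (DihedralGroup.r 1)))
    simp only [map_mul, MulEquiv.apply_symm_apply, DihedralGroup.r_mul_sr, DihedralGroup.sr_mul_r,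
      DihedralGroup.sr.injEq] at h1
    have h3 : ((2 : ℕ) : ZMod n) = 0 := by
      push_cast
      linear_combination h1
    have hn2 : n = 2 := le_antisymm (Nat.le_of_dvd two_pos ((ZMod.natCast_eq_zero_iff _ _).1 h3)) hn
    subst hn2
    exact M.false_of_klein S ⟨e⟩
  · exfalso
    obtain ⟨n, hn, -, x, y, hx, hy, hxy⟩ := h
    rw [hcen y hy x, mul_inv_cancel_right] at hxy
    have h4 : 2 ^ 2 ≤ 2 ^ (n - 1) := Nat.pow_le_pow_right two_pos (by omega)
    have hlt : 2 ^ n = 2 ^ (n - 1) + 2 ^ (n - 1) := by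
      rw [← two_mul, ← pow_succ', show n - 1 + 1 = n by omega]
    have h1 : x ^ (2 ^ (n - 1) - 2) = 1 := by
      refine mul_right_cancel (b := x) ?_
      rw [← pow_succ, show 2 ^ (n - 1) - 2 + 1 = 2 ^ (n - 1) - 1 by omega, one_mul]
      exact hxy.symm
    have h2 := Nat.le_of_dvd (by omega) (orderOf_dvd_of_pow_eq_one h1)
    rw [hx] at h2
    omega
  · exfalso
    obtain ⟨n, hn, -, x, y, z, hx, -, hinf, hz, hzxy⟩ := h
    rw [hcen z hz x, mul_inv_cancel_right] at hzxy
    subst hzxy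
    rw [inf_idem, zpowers_eq_bot] at hinf
    rw [hinf, orderOf_one] at hx
    have := Nat.one_lt_two_pow (n := n) (by omega)
    omega
  · exact Transfer.UnitaryFour.shape_of_sylow hF P e

end Min

/-- The remaining case. -/
def ShapeCase (π : Set ℕ) : Prop :=
  ∀ (X : Type u) [Group X] [Finite X] [IsSimpleGroup X] (_M : Min π X) (S : Sylow 2 X),
    Transfer.UnitaryFour.Shape ↥(S : Subgroup X) → False

theorem simpleCase_of_shapeCase (h2 : 2 ∈ π) (h : ShapeCase.{u} π) : SimpleCase.{u} π := by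
  intro X _ _ _ hnc hc hh hs
  obtain ⟨S⟩ : Nonempty (Sylow 2 X) := inferInstance
  have M : Min π X := ⟨h2, hnc, hc, hh, hs⟩
  exact h X M S (M.shape S)

end Cfsg.Agent.Invol.PiTwoClosed
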